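import Groth.Agent.S5005
import Groth.Agent.S5976
import Groth.Agent.Lib.LM28.ConRetr
import Groth.Agent.Lib.OmegaLocal4.Compat
import Mathlib.CategoryTheory.Abelian.Exact

/-!
# The conormal sequence of a smooth closed subscheme of a smooth scheme
-/

set_option autoImplicit false
set_option backward.isDefEq.respectTransparency false
set_option maxHeartbeats 1000000
set_option linter.style.haveILetI false

universe u

open CategoryTheory CategoryTheory.Limits AlgebraicGeometry TopologicalSpace Opposite

noncomputable section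

namespace GrothLib.HypVan12

variable {S X Y : Scheme.{u}}

theorem exists_conormal_seq (f : X ⟶ S) [Smooth f] [QuasiSeparated f] (i : Y ⟶ X) [IsClosedImmersion i]
    [Smooth (i ≫ f)] :
    ∃ T : ShortComplex Y.Modules, T.ShortExact ∧ Nonempty (T.X₁ ≅ Omega.conormal i) ∧
      Nonempty (T.X₂ ≅ (Scheme.Modules.pullback i).obj (Omega.sheaf f)) ∧
      Nonempty (T.X₃ ≅ Omega.sheaf (i ≫ f)) := by
  have hd := Groth.Agent.S5005.result f
  have hd' := Groth.Agent.S5005.result (i ≫ f)
  let φ := ConStalk4.conormalDiff i (OmegaSh.dOmega f)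
  have hφ := ConStalk4.isConormalDiff_conormalDiff i (OmegaSh.dOmega f)
  obtain ⟨c, hc, -⟩ := OmegaLocal4.existsUnique_compat i (𝟙 S) (Category.comp_id (i ≫ f)) (OmegaSh.dOmega f) hd
    (OmegaSh.dOmega (i ≫ f))
  obtain ⟨hepi, him⟩ := Groth.Agent.S5976.result f i _ _ hd _ _ hd' φ hφ c hc
  have w : φ ≫ c = 0 := by
    refine (kernelSubobject_factors_iff c φ).1 ?_
    rw [← him]
    simpa using imageSubobject_factors_comp_self φ (𝟙 _)
  haveI : Mono φ := by
    rw [OX.mono_iff]
    intro z
    rw [ModuleCat.mono_iff_injective]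
    show Function.Injective (ConStalk4.stalkLin z φ)
    obtain ⟨ρ, hρ⟩ := LM28.exists_retraction f i hd φ hφ z ((i ≫ f).smoothLocus_eq_top.ge trivial)
    exact Function.LeftInverse.injective hρ
  haveI := hepi
  exact ⟨ShortComplex.mk φ c w,
    { exact := (ShortComplex.exact_iff_image_eq_kernel _).2 him },
    ⟨Iso.refl _⟩, ⟨Iso.refl _⟩, ⟨Iso.refl _⟩⟩

end GrothLib.HypVan12
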