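import Groth.Agent.Lib.OmegaPn27.Koszul
import Groth.Agent.Lib.PBDeg17.DetRoots
import Groth.Agent.Lib.Adj27.SmoothExt
import Groth.Agent.Lib.Transversal10.Dims
import Groth.Agent.Lib.OmegaAb15.Basic

/-!
# Exterior powers of an extension by an invertible module
-/

set_option autoImplicit false
set_option backward.isDefEq.respectTransparency false
set_option maxHeartbeats 1000000
set_option linter.style.haveILetI false

universe u

open CategoryTheory CategoryTheory.Limits AlgebraicGeometry TopologicalSpace Opposite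
open GrothLib.ExtPowX

noncomputable section

namespace GrothLib.HypVan12

variable {X : Scheme.{u}}

theorem exists_wedge_seq {S : ShortComplex X.Modules} (hS : S.ShortExact) (h₁ : PicF.IsInvertible S.X₁)
    (h₂ : FlatMod.IsFinLocFree S.X₂) (h₃ : FlatMod.IsFinLocFree S.X₃) (p : ℕ) :
    ∃ T : ShortComplex X.Modules, T.ShortExact ∧
      Nonempty (T.X₁ ≅ CohB1.tensorMod S.X₁ (wedge S.X₃ p)) ∧
      Nonempty (T.X₂ ≅ wedge S.X₂ (p + 1)) ∧ Nonempty (T.X₃ ≅ wedge S.X₃ (p + 1)) := by
  have h₁' := Euler.isFinLocFree_of_isInvertible h₁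
  have hst : ∀ (j l : ℕ) (hn : j + l = p + 1), (ShortComplex.mk (Ses.incl S (p + 1) j)
      (Ses.sig S hS h₁' h₃ hn) (Ses.incl_sig S hS h₁' h₃ hn)).ShortExact := fun j l hn =>
    Ses.shortExact_step S hS h₁' h₂ h₃ hn
  have hz : ∀ t, IsZero (Ses.F S (p + 1) (t + 2)) := by
    intro t
    induction hk : p - t generalizing t with
    | zero => exact Ses.isZero_F_of_lt S (p + 1) (by omega)
    | succ k ih =>
      haveI : IsIso (Ses.incl S (p + 1) (t + 2)) :=
        PBDeg.isIso_f_of_isZero (hst (t + 2) (p + 1 - (t + 2)) (by omega))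
          (PBDeg.isZero_tensor_left
            (PBDeg.isZero_wedge_of_lt (Euler.isFinLocFreeOfRank_one' h₁) (by omega)))
      exact (ih (t + 1) (by omega)).of_iso (asIso (Ses.incl S (p + 1) (t + 2))).symm
  haveI hg : IsIso (Ses.sig S hS h₁' h₃ (j := 1) (l := p) (n := p + 1) (by omega)) :=
    PBDeg.isIso_g_of_isZero (hst 1 p (by omega)) (hz 0)
  haveI := Ses.isIso_toWedge S (p + 1)
  obtain ⟨e1⟩ := ExtPowX.nonempty_iso (isExtPow_wedge h₁' 1) (ModelK.isExtPow_one S.X₁) (Iso.refl _)
  obtain ⟨e0⟩ := OmegaPn27.nonempty_wedge_zero h₁'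
  refine ⟨_, hst 0 (p + 1) (by omega), ⟨?_⟩, ⟨asIso (Ses.toWedge S (p + 1))⟩, ⟨?_⟩⟩
  · exact @asIso _ _ _ _ _ hg ≪≫ Ample.LineData.tensorModMapIso e1 (Iso.refl _)
  · let a : Ses.gr S 0 (p + 1) ≅ CohB1.tensorMod (Coh.structureModule X) (wedge S.X₃ (p + 1)) :=
      Ample.LineData.tensorModMapIso e0 (Iso.refl (wedge S.X₃ (p + 1)))
    exact a ≪≫ OX.tensorUnitLeftIso (wedge S.X₃ (p + 1))

theorem isZero_wedge_omega {k : Type u} [Field k] (f : X ⟶ Spec (CommRingCat.of k)) [Smooth f] [QuasiSeparated f]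
    {n : ℕ} (hdim : topologicalKrullDim X = n) {p : ℕ} (hp : n < p) : IsZero (wedge (Omega.sheaf f) p) := by
  refine OX.isZero_of_subsingleton_stalks _ fun x => ?_
  obtain ⟨W, hW, V, hV, hx, e, hstd⟩ := Smooth.exists_isStandardSmooth f x
  algebraize [(f.appLE W V e).hom]
  obtain ⟨ι, σ, hσ, hι, ⟨P⟩⟩ := Algebra.IsStandardSmooth.out (R := Γ(Spec (CommRingCat.of k), W)) (S := Γ(X, V))
  haveI hm : Algebra.IsStandardSmoothOfRelativeDimension P.dimension
      Γ(Spec (CommRingCat.of k), W) Γ(X, V) := ⟨ι, σ, hσ, hι, P, rfl⟩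
  haveI : SmoothOfRelativeDimension P.dimension (V.ι ≫ f) := by
    rw [← Scheme.Hom.resLE_comp_ι f e]
    haveI : IsAffine V := hV
    haveI : IsAffine W := hW
    haveI : SmoothOfRelativeDimension P.dimension (f.resLE W V e) := by
      rw [HasRingHomProperty.iff_of_isAffine (P := @SmoothOfRelativeDimension P.dimension)]
      exact ((RingHom.locally_respectsIso RingHom.isStandardSmoothOfRelativeDimension_respectsIso).arrow_mk_iso_iff
        (arrowResLEAppIso f W V e)).mpr
        (RingHom.locally_of RingHom.isStandardSmoothOfRelativeDimension_respectsIso _ hm)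
    exact inferInstanceAs (SmoothOfRelativeDimension (P.dimension + 0) _)
  haveI : Nonempty (V : Scheme.{u}) := ⟨⟨x, hx⟩⟩
  have hd : P.dimension ≤ n := by
    have h1 := Transversal.dim_eq_of_smooth (V.ι ≫ f) P.dimension
    have h2 := V.ι.isOpenEmbedding.isInducing.topologicalKrullDim_le
    rw [h1, hdim] at h2
    exact_mod_cast h2
  obtain ⟨s, hs⟩ := Adj27.exists_bijective_coords P.dimension Γ(Spec (CommRingCat.of k), W) Γ(X, V)
  have hF := Adj27.isFrame_dd f hV hW e s hs
  haveI : IsEmpty (Set.powersetCard (Fin P.dimension) p) := ⟨fun t => by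
    have h1 : t.1.card = p := t.2
    have h2 := Finset.card_le_univ t.1
    rw [h1, Fintype.card_fin] at h2
    omega⟩
  haveI : IsEmpty (Fin (Fintype.card (Set.powersetCard (Fin P.dimension) p))) := by
    rw [Fintype.card_eq_zero]; infer_instance
  exact subsingleton_of_forall_eq 0 fun t => by
    obtain ⟨c, rfl⟩ := (TensorGen.bijective_stalk_of_frame (ExtPowX.isFrame_wedge hF p) hx).2 t
    exact Fintype.sum_empty _

end GrothLib.HypVan12
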