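import Groth.Agent.Lib.HypVan12.Zero
import Groth.Agent.Lib.HypVan12.Wedge
import Groth.Agent.Lib.HypVan12.Omega
import Groth.Agent.Lib.SerreVanish.Ample
import Groth.Agent.Lib.RegSecEuler20.Main
import Groth.Agent.Lib.SerrePn27.AsympX
import Groth.Agent.Lib.OmegaPn27.Bott
import Groth.Agent.Lib.Snapper.Positive
import Groth.Agent.Lib.ConnH0.Basic
import Groth.Agent.Lib.ParaPair.Basic

/-!
# Vanishing of twisted forms on a hypersurface section of high degree
-/

set_option autoImplicit false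
set_option backward.isDefEq.respectTransparency false
set_option maxHeartbeats 1000000
set_option linter.style.haveILetI false

universe u

open CategoryTheory CategoryTheory.Limits AlgebraicGeometry TopologicalSpace Opposite
open GrothLib.ExtPowX

noncomputable section

namespace GrothLib.HypVan12

variable (k : Type u) [Field k] {X : Scheme.{u}} [X.Over (Spec (CommRingCat.of k))]

/-- Cohomology of a restriction from the ambient one. -/
theorem subsingleton_restrict (Z : X.IdealSheafData) [Z.subscheme.Over (Spec (CommRingCat.of k))]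
    [Z.subschemeι.IsOver (Spec (CommRingCat.of k))] {F : X.Modules} (hF : FlatMod.IsFinLocFree F) (q : ℕ)
    (h : Subsingleton (Coh.HH X F q)) (h' : Subsingleton (Coh.HH X (CohB1.tensorMod (ClSub.idealMod Z) F) (q + 1))) :
    Subsingleton (Coh.HH Z.subscheme ((Scheme.Modules.pullback Z.subschemeι).obj F) q) := by
  obtain ⟨e⟩ := SerrePn27.nonempty_HH_push_equiv (k := k) Z.subschemeι
    ((Scheme.Modules.pullback Z.subschemeι).obj F) q
  have hS : ((ShortComplex.mk (ClSub.idealModι Z) (ClSub.toSubscheme Z) (kernel.condition _)).map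
      (Euler.tF F)).ShortExact :=
    OX.tensor_map_shortExact (OX.flat_of_isFinLocFree hF) (ConnH0.shortExact_ideal Z)
  let u0 : CohB1.tensorMod (Coh.structureModule X) F ≅ F := OX.tensorUnitLeftIso F
  have h2 : Subsingleton (Coh.HH X (CohB1.tensorMod (Coh.structureModule X) F) q) :=
    (Euler.hhEquiv (A := k) u0 q).toEquiv.subsingleton
  have h3 := OmegaPn27.subsingleton_X₃ (A := k) hS q h2 h'
  haveI := ProjFormula.isIso_projHom Z.subschemeι hF (Coh.structureModule Z.subscheme)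
  let u1 : CohB1.tensorMod (ClSub.quotMod Z) F ≅
      (Scheme.Modules.pushforward Z.subschemeι).obj ((Scheme.Modules.pullback Z.subschemeι).obj F) :=
    GrTilde.tensorModComm _ _ ≪≫ asIso (ProjFormula.projHom Z.subschemeι F (Coh.structureModule Z.subscheme)) ≪≫
      (Scheme.Modules.pushforward Z.subschemeι).mapIso
        (GrTilde.tensorModComm _ _ ≪≫ OX.tensorUnitLeftIso _)
  have h4 : Subsingleton (Coh.HH X (CohB1.tensorMod (ClSub.quotMod Z) F) q) := h3
  haveI := h4
  haveI := (Euler.hhEquiv (A := k) u1.symm q).toEquiv.subsingleton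
  exact e.toEquiv.subsingleton

theorem nonempty_pow_succ (L : X.Modules) (j m : ℕ) :
    Nonempty (CohB1.tensorPow L ((j + 1) * m) ≅
      CohB1.tensorMod (CohB1.tensorPow L (j * m)) (CohB1.tensorPow L m)) := by
  rw [Nat.succ_mul]
  exact Snapper.nonempty_tensorPow_add L (j * m) m

/-- Absorbing an inverse. -/
def cancelIso {Lm I A B : X.Modules} (inv : CohB1.tensorMod Lm I ≅ Coh.structureModule X)
    (e : B ≅ CohB1.tensorMod A Lm) : CohB1.tensorMod I B ≅ A :=
  GrTilde.tensorModComm I B ≪≫ Ample.LineData.tensorModMapIso e (Iso.refl I) ≪≫ OX.tensorAssoc A Lm I ≪≫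
    Ample.LineData.tensorModMapIso (Iso.refl A) inv ≪≫ Euler.tFUnitIso A

/-- Absorbing an inverse, second form. -/
def cancelIso' {Lm I E A B : X.Modules} (inv : CohB1.tensorMod Lm I ≅ Coh.structureModule X)
    (e : B ≅ CohB1.tensorMod A Lm) : CohB1.tensorMod I (CohB1.tensorMod E B) ≅ CohB1.tensorMod E A :=
  cancelIso inv (Ample.LineData.tensorModMapIso (Iso.refl E) e ≪≫ (OX.tensorAssoc E A Lm).symm)

/-- The first term of the twisted step. -/
theorem nonempty_first {Y : Scheme.{u}} (i : Y ⟶ X) {Lm I A B : X.Modules}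
    (inv : CohB1.tensorMod Lm I ≅ Coh.structureModule X) (e : B ≅ CohB1.tensorMod A Lm)
    {U N W W' : Y.Modules} (u : U ≅ CohB1.tensorMod N W') (eN : N ≅ (Scheme.Modules.pullback i).obj I)
    (w : W' ≅ W) :
    Nonempty (CohB1.tensorMod U ((Scheme.Modules.pullback i).obj B) ≅
      CohB1.tensorMod W ((Scheme.Modules.pullback i).obj A)) := by
  let u' : U ≅ CohB1.tensorMod W ((Scheme.Modules.pullback i).obj I) :=
    u ≪≫ Ample.LineData.tensorModMapIso eN w ≪≫ GrTilde.tensorModComm _ _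
  let p : CohB1.tensorMod ((Scheme.Modules.pullback i).obj I) ((Scheme.Modules.pullback i).obj B) ≅
      (Scheme.Modules.pullback i).obj A :=
    (OX.pullTensorIso i I B).symm ≪≫ (Scheme.Modules.pullback i).mapIso (cancelIso inv e)
  exact ⟨Ample.LineData.tensorModMapIso u' (Iso.refl _) ≪≫ OX.tensorAssoc _ _ _ ≪≫
    Ample.LineData.tensorModMapIso (Iso.refl W) p⟩

theorem nonempty_mid {Y : Scheme.{u}} (i : Y ⟶ X) {E B : X.Modules} {U : Y.Modules}
    (u : U ≅ (Scheme.Modules.pullback i).obj E) :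
    Nonempty (CohB1.tensorMod U ((Scheme.Modules.pullback i).obj B) ≅
      (Scheme.Modules.pullback i).obj (CohB1.tensorMod E B)) :=
  ⟨Ample.LineData.tensorModMapIso u (Iso.refl _) ≪≫ (OX.pullTensorIso i E B).symm⟩

theorem main [IsProper (X ↘ Spec (CommRingCat.of k))] [Smooth (X ↘ Spec (CommRingCat.of k))]
    {n : ℕ} (hn : topologicalKrullDim X = n) {L : X.Modules} (hL : CohB1.IsAmple L) :
    ∃ m₀ : ℕ, ∀ (m : ℕ), m₀ ≤ m →
      ∀ (s : Coh.structureModule X ⟶ CohB1.tensorPow L m) [Mono s]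
        [Smooth ((PicF2.zeroScheme (CohB1.tensorPow L m) s).subschemeι ≫ (X ↘ Spec (CommRingCat.of k)))]
        (a b : ℕ) (OmY : (PicF2.zeroScheme (CohB1.tensorPow L m) s).subscheme.Modules),
        ExtPow.IsExtPow b (Omega.sheaf ((PicF2.zeroScheme (CohB1.tensorPow L m) s).subschemeι ≫
          (X ↘ Spec (CommRingCat.of k)))) OmY →
        n ≤ a + b →
        Subsingleton (Coh.HH X (CohB1.tensorMod
          ((Coh.push (PicF2.zeroScheme (CohB1.tensorPow L m) s).subschemeι).obj OmY)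
          (CohB1.tensorPow L m)) a) := by
  haveI : QuasiSeparated (X ↘ Spec (CommRingCat.of k)) := inferInstance
  have hΩ : FlatMod.IsFinLocFree (Omega.sheaf (X ↘ Spec (CommRingCat.of k))) := OmegaAb15.isFinLocFree_omega _
  let E : ℕ → X.Modules := fun p => wedge (Omega.sheaf (X ↘ Spec (CommRingCat.of k))) p
  have hE : ∀ p, FlatMod.IsFinLocFree (E p) := fun p => isFinLocFree_wedge hΩ p
  haveI := Euler.isNoetherian_of_proper (X := X) k
  choose n₀ hn₀ using fun p => SerreVanish.exists_forall_subsingleton k hL (Euler.isCoh_of_isFinLocFree (hE p))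
  refine ⟨(Finset.range (n + 1)).sup n₀, fun m hm s _ _ a b OmY hO hab => ?_⟩
  have hLm := Ample.isInvertible_tensorPow hL.1 m
  let Z := PicF2.zeroScheme (CohB1.tensorPow L m) s
  let i := Z.subschemeι
  letI : Z.subscheme.Over (Spec (CommRingCat.of k)) := ⟨i ≫ (X ↘ Spec (CommRingCat.of k))⟩
  haveI : i.IsOver (Spec (CommRingCat.of k)) := ⟨rfl⟩
  let q := i ≫ (X ↘ Spec (CommRingCat.of k))
  haveI : Smooth q := by assumption
  haveI : QuasiSeparated q := inferInstance
  have hΩY : FlatMod.IsFinLocFree (Omega.sheaf q) := OmegaAb15.isFinLocFree_omega _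
  let W : ℕ → Z.subscheme.Modules := fun p => wedge (Omega.sheaf q) p
  let M : ℕ → Z.subscheme.Modules := fun j => (Scheme.Modules.pullback i).obj (CohB1.tensorPow L (j * m))
  have hM : ∀ j, FlatMod.IsFinLocFree (M j) := fun j =>
    OX.isFinLocFree_pullback i (Euler.isFinLocFree_of_isInvertible (Ample.isInvertible_tensorPow hL.1 _))
  have hI : PicF.IsInvertible (ClSub.idealMod Z) :=
    IdealModSec.isInvertible_of_isEffCartier (isEffCartier_zeroScheme hLm s)
  obtain ⟨inv⟩ := nonempty_inverse hLm s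
  obtain ⟨T, hT, ⟨t1⟩, ⟨t2⟩, ⟨t3⟩⟩ := exists_conormal_seq (X ↘ Spec (CommRingCat.of k)) i
  have hcon : Nonempty (Omega.conormal i ≅ (Scheme.Modules.pullback i).obj (ClSub.idealMod Z)) := by
    rw [Omega.conormal, Scheme.IdealSheafData.ker_subschemeι]
    exact ⟨Iso.refl _⟩
  obtain ⟨econ⟩ := hcon
  let eN : T.X₁ ≅ (Scheme.Modules.pullback i).obj (ClSub.idealMod Z) := t1 ≪≫ econ
  have hN1 : PicF.IsInvertible T.X₁ := GrothLib.ParaPair.isInvertible_of_iso eN (Ample.isInvertible_pullback i hI)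
  have h2 : FlatMod.IsFinLocFree T.X₂ := DCoh.isFinLocFree_of_iso t2.symm (OX.isFinLocFree_pullback i hΩ)
  have h3 : FlatMod.IsFinLocFree T.X₃ := DCoh.isFinLocFree_of_iso t3.symm hΩY
  -- the twisted step
  have step : ∀ (p j : ℕ), ∃ R : ShortComplex Z.subscheme.Modules, R.ShortExact ∧
      Nonempty (R.X₁ ≅ CohB1.tensorMod (W p) (M j)) ∧
      Nonempty (R.X₂ ≅ (Scheme.Modules.pullback i).obj (CohB1.tensorMod (E (p + 1)) (CohB1.tensorPow L ((j + 1) * m)))) ∧
      Nonempty (R.X₃ ≅ CohB1.tensorMod (W (p + 1)) (M (j + 1))) := by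
    intro p j
    obtain ⟨U, hU, ⟨u1⟩, ⟨u2⟩, ⟨u3⟩⟩ := exists_wedge_seq hT hN1 h2 h3 p
    obtain ⟨w1⟩ := ExtPowX.nonempty_iso (isExtPow_wedge h3 p) (isExtPow_wedge hΩY p) t3
    obtain ⟨w2⟩ := ExtPowX.nonempty_iso (isExtPow_wedge h2 (p + 1))
      (ExtPowX.isExtPow_pullback i hΩ (isExtPow_wedge hΩ (p + 1))) t2
    obtain ⟨w3⟩ := ExtPowX.nonempty_iso (isExtPow_wedge h3 (p + 1)) (isExtPow_wedge hΩY (p + 1)) t3
    obtain ⟨ea⟩ := nonempty_pow_succ L j m
    exact ⟨U.map (Euler.tF (M (j + 1))), OX.tensor_map_shortExact (OX.flat_of_isFinLocFree (hM _)) hU,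
      nonempty_first i inv ea u1 eN w1, nonempty_mid i (u2 ≪≫ w2),
      ⟨Ample.LineData.tensorModMapIso (u3 ≪≫ w3) (Iso.refl _)⟩⟩
  have hzero : ∀ p j, n ≤ p → IsZero (CohB1.tensorMod (W p) (M j)) := by
    intro p j hp
    obtain ⟨R, hR, ⟨r1⟩, ⟨r2⟩, -⟩ := step p j
    haveI := hR.mono_f
    have hz : IsZero R.X₂ := ((Scheme.Modules.pullback i).map_isZero
      (PBDeg.isZero_tensor_left (isZero_wedge_omega _ hn (by omega)))).of_iso r2
    exact (hz.of_mono R.f).of_iso r1.symm
  have hmid : ∀ p j q, p ≤ n → 1 ≤ q → 1 ≤ j → Subsingleton (Coh.HH Z.subscheme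
      ((Scheme.Modules.pullback i).obj (CohB1.tensorMod (E p) (CohB1.tensorPow L ((j + 1) * m)))) q) := by
    intro p j q hp hq hj
    have hmp : n₀ p ≤ m := le_trans (Finset.le_sup (f := n₀) (Finset.mem_range.2 (by omega))) hm
    refine subsingleton_restrict k Z (OX.isFinLocFree_tensor (hE p)
      (Euler.isFinLocFree_of_isInvertible (Ample.isInvertible_tensorPow hL.1 _))) q
      (hn₀ p _ (le_trans hmp (Nat.le_mul_of_pos_left m (by omega))) q hq) ?_
    obtain ⟨ea⟩ := nonempty_pow_succ L j m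
    let eb : CohB1.tensorMod (ClSub.idealMod Z) (CohB1.tensorMod (E p) (CohB1.tensorPow L ((j + 1) * m))) ≅
        CohB1.tensorMod (E p) (CohB1.tensorPow L (j * m)) := cancelIso' inv ea
    haveI := hn₀ p (j * m) (le_trans hmp (Nat.le_mul_of_pos_left m (by omega))) (q + 1) (by omega)
    exact (Euler.hhEquiv (A := k) eb (q + 1)).toEquiv.subsingleton
  have key : ∀ (t p j a : ℕ), n ≤ p + t → 1 ≤ j → n ≤ a + p →
      Subsingleton (Coh.HH Z.subscheme (CohB1.tensorMod (W p) (M j)) a) := by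
    intro t
    induction t with
    | zero => exact fun p j a hp _ _ => SerrePn27.subsingleton_HH_of_isZero (k := k) (hzero p j (by omega)) a
    | succ t ih =>
      intro p j a hp hj ha
      by_cases hpn : n ≤ p
      · exact SerrePn27.subsingleton_HH_of_isZero (k := k) (hzero p j hpn) a
      obtain ⟨c, rfl⟩ : ∃ c, a = c + 1 := ⟨a - 1, by omega⟩
      obtain ⟨R, hR, ⟨r1⟩, ⟨r2⟩, ⟨r3⟩⟩ := step p j
      haveI := ih (p + 1) (j + 1) c (by omega) (by omega) (by omega)
      have g3 : Subsingleton (Coh.HH Z.subscheme R.X₃ c) := (Euler.hhEquiv (A := k) r3 c).toEquiv.subsingleton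
      haveI := hmid (p + 1) j (c + 1) (by omega) (by omega) hj
      have g2 : Subsingleton (Coh.HH Z.subscheme R.X₂ (c + 1)) :=
        (Euler.hhEquiv (A := k) r2 (c + 1)).toEquiv.subsingleton
      haveI := OmegaPn27.subsingleton_X₁_succ (A := k) hR c g3 g2
      exact (Euler.hhEquiv (A := k) r1.symm (c + 1)).toEquiv.subsingleton
  obtain ⟨eW⟩ := ExtPowX.nonempty_iso hO (isExtPow_wedge hΩY b) (Iso.refl _)
  haveI := key n b 1 a (by omega) le_rfl hab
  haveI := ProjFormula.isIso_projHom i (Euler.isFinLocFree_of_isInvertible hLm) OmY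
  let u : CohB1.tensorMod ((Scheme.Modules.pushforward i).obj OmY) (CohB1.tensorPow L m) ≅
      (Scheme.Modules.pushforward i).obj (CohB1.tensorMod (W b) (M 1)) :=
    GrTilde.tensorModComm _ _ ≪≫ asIso (ProjFormula.projHom i (CohB1.tensorPow L m) OmY) ≪≫
      (Scheme.Modules.pushforward i).mapIso (GrTilde.tensorModComm _ _ ≪≫
        Ample.LineData.tensorModMapIso eW ((Scheme.Modules.pullback i).mapIso (eqToIso (by rw [one_mul]))))
  obtain ⟨e⟩ := SerrePn27.nonempty_HH_push_equiv (k := k) i (CohB1.tensorMod (W b) (M 1)) a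
  haveI := e.symm.toEquiv.subsingleton
  exact (Euler.hhEquiv (A := k) u a).toEquiv.subsingleton

end GrothLib.HypVan12
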