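import Groth.Agent.Lib.HypVan12.ChiY
import Groth.Agent.Lib.OmegaPn27.BottField
import Groth.Agent.Lib.PBDeg17.DualRoots
import Groth.Agent.Lib.NullCorr27.Basic

/-!
# The tangent sheaf of projective space restricted to a hypersurface
-/

set_option autoImplicit false
set_option backward.isDefEq.respectTransparency false
set_option maxHeartbeats 1000000
set_option linter.style.haveILetI false
set_option linter.unusedSectionVars false

universe u

open CategoryTheory CategoryTheory.Limits AlgebraicGeometry TopologicalSpace Opposite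
open GrothLib.ExtPowX GrothLib.LocFreeHom
open GrothLib.OmegaPn27 (Wt OD OmegaP Mid)

noncomputable section

namespace GrothLib.HypVan12

attribute [local instance] LocFreeHom.hasSheafHom

section Abs

variable {X : Scheme.{u}}

/-- A twist of a pairing partner is a dual. -/
def twistDual {W B ω O' : X.Modules} (hW : FlatMod.IsFinLocFree W) (c : B ≅ iHom W ω)
    (u : CohB1.tensorMod ω O' ≅ Coh.structureModule X) :
    CohB1.tensorMod B O' ≅ iHom W (Coh.structureModule X) :=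
  let d : B ≅ CohB1.tensorMod ω (LocFreeDual20.dual W) := c ≪≫ ((LocFreeDual20.dualIso hW).app ω).symm
  Ample.LineData.tensorModMapIso (d ≪≫ GrTilde.tensorModComm ω (LocFreeDual20.dual W)) (Iso.refl O') ≪≫
    OX.tensorAssoc (LocFreeDual20.dual W) ω O' ≪≫
      Ample.LineData.tensorModMapIso (Iso.refl (LocFreeDual20.dual W)) u ≪≫
        Euler.tFUnitIso (LocFreeDual20.dual W)

theorem nonempty_dual_inverse {L M : X.Modules} (hL : PicF.IsInvertible L)
    (u : CohB1.tensorMod M L ≅ Coh.structureModule X) : Nonempty (LocFreeDual20.dual L ≅ M) := by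
  obtain ⟨-, ⟨i⟩⟩ := PBDeg.exists_dual_inverse hL
  exact ⟨(OX.tensorUnitLeftIso (LocFreeDual20.dual L)).symm ≪≫
    Ample.LineData.tensorModMapIso u.symm (Iso.refl (LocFreeDual20.dual L)) ≪≫
    OX.tensorAssoc M L (LocFreeDual20.dual L) ≪≫ Ample.LineData.tensorModMapIso (Iso.refl M) i ≪≫
    Euler.tFUnitIso M⟩

theorem nonempty_pullback_dual {Y : Scheme.{u}} (i : Y ⟶ X) {E : X.Modules} (hE : FlatMod.IsFinLocFree E) :
    Nonempty ((Scheme.Modules.pullback i).obj (LocFreeDual20.dual E) ≅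
      LocFreeDual20.dual ((Scheme.Modules.pullback i).obj E)) := by
  haveI := LocFreeHom.isIso_cmp i hE (Coh.structureModule X)
  exact ⟨asIso (cmp i E (Coh.structureModule X)) ≪≫ iHomCongr (Iso.refl _) (OX.pullUnitIso i)⟩

end Abs

variable {k : Type u} [Field k]

theorem isProper_projSpace (N : ℕ) : IsProper (CohB1.ProjSpace N k ↘ Spec (CommRingCat.of k)) :=
  Chow.isProper_toSpec N k

theorem nonempty_top_twist (N : ℕ) [QuasiSeparated (CohB1.ProjSpace.toSpec N k)] :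
    Nonempty (Wt N k N ((N + 1 : ℕ) : ℤ) ≅ Coh.structureModule (CohB1.ProjSpace N k)) := by
  obtain ⟨T, hT, ⟨a₁⟩, ⟨a₂⟩, ⟨a₃⟩⟩ := OmegaPn27.exists_seq' N k N ((N + 1 : ℕ) : ℤ)
  haveI : IsIso T.g := PBDeg.isIso_g_of_isZero hT ((OmegaPn27.isZero_Wt N k (Nat.lt_succ_self N) _).of_iso a₁)
  letI : Unique (Fin ((N + 1).choose (N + 1))) := (finCongr (Nat.choose_self (N + 1))).unique
  obtain ⟨c⟩ := GrTilde.nonempty_structureModule_iso_twist_zero (CohB1.polyGrading N k)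
  exact ⟨a₃.symm ≪≫ (asIso T.g).symm ≪≫ a₂ ≪≫ coproductUniqueIso _ ≪≫
    eqToIso (congrArg (OD N k) (sub_self _)) ≪≫ c.symm⟩

theorem nonempty_tangent {N p : ℕ} (hp : 1 + p = N) [QuasiSeparated (CohB1.ProjSpace.toSpec N k)] :
    Nonempty (Wt N k p ((N + 1 : ℕ) : ℤ) ≅
      (DCoh.sheafHom (OmegaP N k)).obj (Coh.structureModule (CohB1.ProjSpace N k))) := by
  obtain ⟨c⟩ := WedgePair27.nonempty_iso_iHom (OmegaP N k) (OmegaPn27.isFinLocFree_omegaP N k) (p := 1) (q := p)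
    (n := N) hp (fun x => by
      obtain ⟨i, V, hV, hx⟩ := OmegaPn27.exists_chart_mem N _ _ (ProjPic26.isPullback_chi N k) x
      exact ⟨_, _, hx, OmegaPn27.isFrame_chart N _ _ (ProjPic26.isPullback_chi N k) i hV⟩)
  obtain ⟨u⟩ := nonempty_top_twist (k := k) N
  obtain ⟨w⟩ := NullCorr27.nonempty_wedge_one N k
  exact ⟨twistDual (X := CohB1.ProjSpace N k)
      (isFinLocFree_wedge (OmegaPn27.isFinLocFree_omegaP N k) 1) c u ≪≫ iHomCongr w.symm (Iso.refl _)⟩

theorem exists_tangent_seq {N p d : ℕ} (hp : 1 + p = N) (F : LefPen.Form N k d) (hF : F ≠ 0)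
    [QuasiSeparated (CohB1.ProjSpace.toSpec N k)] :
    ∃ S : ShortComplex (CohB1.ProjSpace N k).Modules, S.ShortExact ∧
      Nonempty (S.X₁ ≅ Wt N k p (((N + 1 : ℕ) : ℤ) - d)) ∧ Nonempty (S.X₂ ≅ Wt N k p ((N + 1 : ℕ) : ℤ)) ∧
      Nonempty (S.X₃ ≅ (Scheme.Modules.pushforward (LefPen.hypIdeal F).subschemeι).obj
        ((Scheme.Modules.pullback (LefPen.hypIdeal F).subschemeι).obj
          ((DCoh.sheafHom (OmegaP N k)).obj (Coh.structureModule (CohB1.ProjSpace N k))))) := by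
  have hW := isFinLocFree_Wt (N := N) (k := k) p ((N + 1 : ℕ) : ℤ)
  obtain ⟨S, hS, ⟨s1⟩, ⟨s2⟩, ⟨s3⟩⟩ := exists_restrict_seq (LefPen.hypIdeal F) hW
  obtain ⟨eI⟩ := CI20.nonempty_idealMod_hyp F hF
  obtain ⟨g⟩ := OmegaPn27.nonempty_twist_add N k ((N + 1 : ℕ) : ℤ) (-(d : ℤ))
  obtain ⟨t⟩ := nonempty_tangent (k := k) hp
  exact ⟨S, hS, ⟨s1 ≪≫ moveTwist (X := CohB1.ProjSpace N k) eI
      (g ≪≫ eqToIso (congrArg (OD N k) (sub_eq_add_neg _ _).symm))⟩, ⟨s2⟩,
    ⟨s3 ≪≫ (Scheme.Modules.pushforward _).mapIso ((Scheme.Modules.pullback _).mapIso t)⟩⟩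

/-- The cohomology of the restricted tangent sheaf. -/
theorem nonempty_tangent_equiv {N p d : ℕ} (hp : 1 + p = N) (F : LefPen.Form N k d) (hF : F ≠ 0)
    [QuasiSeparated (CohB1.ProjSpace.toSpec N k)] {q : ℕ} (hq : 0 < q)
    [(LefPen.hypIdeal F).subscheme.Over (Spec (CommRingCat.of k))]
    [(LefPen.hypIdeal F).subschemeι.IsOver (Spec (CommRingCat.of k))] :
    Nonempty (Coh.HH (LefPen.hypIdeal F).subscheme ((Scheme.Modules.pullback (LefPen.hypIdeal F).subschemeι).obj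
        ((DCoh.sheafHom (OmegaP N k)).obj (Coh.structureModule (CohB1.ProjSpace N k)))) q ≃ₗ[k]
      Coh.HH (CohB1.ProjSpace N k) (Wt N k p (((N + 1 : ℕ) : ℤ) - d)) (q + 1)) := by
  obtain ⟨S, hS, ⟨s1⟩, ⟨s2⟩, ⟨s3⟩⟩ := exists_tangent_seq hp F hF
  haveI h2 : ∀ r, 0 < r → Subsingleton (Coh.HH (CohB1.ProjSpace N k) S.X₂ r) := fun r hr =>
    OmegaPn27.subsingleton_iso N k s2 (OmegaPn27.subsingleton_pos N k (by omega) p hr)
  obtain ⟨f⟩ := nonempty_push_equiv k (LefPen.hypIdeal F) (Iso.refl ((Scheme.Modules.pullback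
    (LefPen.hypIdeal F).subschemeι).obj
      ((DCoh.sheafHom (OmegaP N k)).obj (Coh.structureModule (CohB1.ProjSpace N k))))) q
  obtain ⟨δ⟩ := OmegaPn27.nonempty_delta_equiv (A := k) hS q (h2 q hq) (h2 (q + 1) (by omega))
  exact ⟨f.symm ≪≫ₗ Euler.hhEquiv (A := k) s3.symm q ≪≫ₗ δ ≪≫ₗ Euler.hhEquiv (A := k) s1 (q + 1)⟩

theorem nontrivial_of_finrank {V : Type u} [AddCommGroup V] [Module k V] (h : 0 < Module.finrank k V) :
    Nontrivial V := Module.nontrivial_of_finrank_pos h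

theorem subsingleton_H2_tangent_iff {N p d : ℕ} (hN : 2 ≤ N) (hp : 1 + p = N) (hd : 1 ≤ d)
    [QuasiSeparated (CohB1.ProjSpace.toSpec N k)] :
    Subsingleton (Coh.HH (CohB1.ProjSpace N k) (Wt N k p (((N + 1 : ℕ) : ℤ) - d)) 2) ↔
      ¬ ((N = 2 ∧ 5 ≤ d) ∨ (N = 3 ∧ d = 4)) := by
  constructor
  · rintro h (⟨rfl, h5⟩ | ⟨rfl, rfl⟩)
    · obtain rfl : p = 1 := by omega
      have hz : Module.finrank k (Coh.HH (CohB1.ProjSpace 2 k) (Wt 2 k 1 (((2 + 1 : ℕ) : ℤ) - d)) 2) = 0 :=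
        Module.finrank_zero_of_subsingleton
      rw [OmegaPn27.finrank_dual 2 k (by omega) le_rfl,
        show -(((2 + 1 : ℕ) : ℤ) - d) = ((d - 3 : ℕ) : ℤ) by omega,
        OmegaPn27.finrank_pos_zero 2 k (2 - 1) (by omega) (d - 3) (by omega)] at hz
      exact (Nat.mul_pos (Nat.choose_pos (by omega)) (Nat.choose_pos (by omega))).ne' hz
    · obtain rfl : p = 2 := by omega
      rw [show ((3 + 1 : ℕ) : ℤ) - ((4 : ℕ) : ℤ) = 0 by simp] at h
      obtain ⟨e⟩ := OmegaPn27.nonempty_untwisted 3 k 2 (by omega)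
      exact not_subsingleton k e.symm.toEquiv.subsingleton
  · intro h
    rcases lt_trichotomy (((N + 1 : ℕ) : ℤ) - d) 0 with he | he | he
    · refine OmegaPn27.subsingleton_neg N k he p 2 ?_
      omega
    · rw [he]
      exact OmegaPn27.subsingleton_untwisted N k p 2 (by omega)
    · exact OmegaPn27.subsingleton_pos N k he p (by omega)

/-- The second cohomology of the tangent sheaf of a surface of large degree. -/
theorem nontrivial_H2_tangent {d : ℕ} (hd : 6 ≤ d) (F : LefPen.Form 3 k d) (hF : F ≠ 0)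
    [Smooth ((LefPen.hypIdeal F).subschemeι ≫ CohB1.ProjSpace.toSpec 3 k)]
    [QuasiSeparated (CohB1.ProjSpace.toSpec 3 k)]
    [(LefPen.hypIdeal F).subscheme.Over (Spec (CommRingCat.of k))]
    [(LefPen.hypIdeal F).subschemeι.IsOver (Spec (CommRingCat.of k))] :
    Nontrivial (Coh.HH (LefPen.hypIdeal F).subscheme
      ((DCoh.sheafHom (Omega.sheaf ((LefPen.hypIdeal F).subschemeι ≫ CohB1.ProjSpace.toSpec 3 k))).obj
        (Coh.structureModule (LefPen.hypIdeal F).subscheme)) 2) := by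
  let I := LefPen.hypIdeal F
  let i := I.subschemeι
  haveI := OmegaPn27.smoothOfRelativeDimension_toSpec 3 k
  haveI : Smooth (CohB1.ProjSpace.toSpec 3 k) := SmoothOfRelativeDimension.smooth 3 _
  have hΩ : FlatMod.IsFinLocFree (OmegaP 3 k) := OmegaPn27.isFinLocFree_omegaP _ _
  have hΩY : FlatMod.IsFinLocFree (Omega.sheaf (i ≫ CohB1.ProjSpace.toSpec 3 k)) := OmegaAb15.isFinLocFree_omega _
  obtain ⟨e⟩ := nonempty_tangent_equiv (k := k) (q := 2) (p := 2) rfl F hF (by omega)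
  have hT : Nontrivial (Coh.HH I.subscheme ((Scheme.Modules.pullback i).obj
      ((DCoh.sheafHom (OmegaP 3 k)).obj (Coh.structureModule (CohB1.ProjSpace 3 k)))) 2) := by
    haveI : Nontrivial (Coh.HH (CohB1.ProjSpace 3 k) (Wt 3 k 2 (((3 + 1 : ℕ) : ℤ) - d)) (2 + 1)) := by
      refine nontrivial_of_finrank (k := k) ?_
      rw [OmegaPn27.finrank_dual 3 k (p := 2) (q := 2 + 1) (by omega) le_rfl,
        show -(((3 + 1 : ℕ) : ℤ) - d) = ((d - 4 : ℕ) : ℤ) by omega,
        OmegaPn27.finrank_pos_zero 3 k (3 - 2) (by omega) (d - 4) (by omega)]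
      exact Nat.mul_pos (Nat.choose_pos (by omega)) (Nat.choose_pos (by omega))
    exact e.toEquiv.nontrivial
  obtain ⟨T, hTs, ⟨t1⟩, ⟨t2⟩, ⟨t3⟩⟩ := exists_conormal_seq (CohB1.ProjSpace.toSpec 3 k) i
  obtain ⟨eI⟩ := CI20.nonempty_idealMod_hyp F hF
  have hcon : Nonempty (Omega.conormal i ≅ (Scheme.Modules.pullback i).obj (ClSub.idealMod I)) := by
    rw [Omega.conormal, Scheme.IdealSheafData.ker_subschemeι]
    exact ⟨Iso.refl _⟩
  obtain ⟨econ⟩ := hcon
  let eN : T.X₁ ≅ (Scheme.Modules.pullback i).obj (OD 3 k (-(d : ℤ))) :=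
    t1 ≪≫ econ ≪≫ (Scheme.Modules.pullback i).mapIso eI
  have hinv := ProjPic26.isInvertible_twistProjSpace 3 k (-(d : ℤ))
  have h1 : PicF.IsInvertible T.X₁ := ParaPair.isInvertible_of_iso eN (Ample.isInvertible_pullback i hinv)
  obtain ⟨hz, hD⟩ := PBDeg.shortExact_dual (Euler.isFinLocFree_of_isInvertible h1)
    (DCoh.isFinLocFree_of_iso t2.symm (OX.isFinLocFree_pullback i hΩ))
    (DCoh.isFinLocFree_of_iso t3.symm hΩY) T.f T.g T.zero hTs
  obtain ⟨g⟩ := OmegaPn27.nonempty_twist_add 3 k (d : ℤ) (-(d : ℤ))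
  obtain ⟨c⟩ := GrTilde.nonempty_structureModule_iso_twist_zero (CohB1.polyGrading 3 k)
  let u : CohB1.tensorMod ((Scheme.Modules.pullback i).obj (OD 3 k (d : ℤ)))
      ((Scheme.Modules.pullback i).obj (OD 3 k (-(d : ℤ)))) ≅ Coh.structureModule I.subscheme :=
    (OX.pullTensorIso i _ _).symm ≪≫ (Scheme.Modules.pullback i).mapIso
      (g ≪≫ eqToIso (congrArg (OD 3 k) (add_neg_cancel (d : ℤ))) ≪≫ c.symm) ≪≫ OX.pullUnitIso i
  obtain ⟨n1⟩ := nonempty_dual_inverse (Ample.isInvertible_pullback i hinv) u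
  obtain ⟨n2⟩ := nonempty_pullback_dual i hΩ
  have hO : Subsingleton (Coh.HH I.subscheme ((Scheme.Modules.pullback i).obj (OD 3 k (d : ℤ))) 2) := by
    refine subsingleton_restrict k I (Euler.isFinLocFree_of_isInvertible
      (ProjPic26.isInvertible_twistProjSpace 3 k _)) 2
      (ProjCohom.subsingleton_HH (fun h => by omega) (fun h => by omega)) ?_
    refine OmegaPn27.subsingleton_iso 3 k
      (Ample.LineData.tensorModMapIso eI (Iso.refl (OD 3 k (d : ℤ))) ≪≫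
        (OmegaPn27.nonempty_twist_add 3 k (-(d : ℤ)) (d : ℤ)).some ≪≫
        eqToIso (congrArg (OD 3 k) (neg_add_cancel (d : ℤ))))
      (ProjCohom.subsingleton_HH (fun h => by omega) (fun h => by omega))
  have hX3 := (Euler.hhEquiv (A := k) (iHomCongr eN.symm (Iso.refl _) ≪≫ n1) 2).toEquiv.subsingleton
  by_contra hcon'
  haveI := not_nontrivial_iff_subsingleton.1 hcon'
  have hX1 := (Euler.hhEquiv (A := k) (iHomCongr t3.symm (Iso.refl (Coh.structureModule I.subscheme))) 2).toEquiv.subsingleton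
  have hX2 : Subsingleton (Coh.HH I.subscheme (iHom T.X₂ (Coh.structureModule I.subscheme)) 2) :=
    ⟨fun a b => (injective_g k hD 2 hX1) (@Subsingleton.elim _ hX3 _ _)⟩
  haveI := (Euler.hhEquiv (A := k) (n2 ≪≫ iHomCongr t2 (Iso.refl _)) 2).toEquiv.subsingleton
  exact not_subsingleton _ ‹Subsingleton (Coh.HH I.subscheme ((Scheme.Modules.pullback i).obj _) 2)›

end GrothLib.HypVan12
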