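import Groth.Agent.Lib.HypVan12.Lef

/-!
# Comparison of forms on a variety and on a smooth divisor
-/

set_option autoImplicit false
set_option backward.isDefEq.respectTransparency false
set_option maxHeartbeats 1000000
set_option linter.style.haveILetI false

universe u

open CategoryTheory CategoryTheory.Limits AlgebraicGeometry TopologicalSpace Opposite
open GrothLib.ExtPowX

noncomputable section

namespace GrothLib.HypVan12

theorem exists_conormal_seq' {S X Y : Scheme.{u}} (f : X ⟶ S) [Smooth f] [QuasiSeparated f] (i : Y ⟶ X)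
    [IsClosedImmersion i] (g : Y ⟶ S) (h : i ≫ f = g) [Smooth g] :
    ∃ T : ShortComplex Y.Modules, T.ShortExact ∧ Nonempty (T.X₁ ≅ Omega.conormal i) ∧
      Nonempty (T.X₂ ≅ (Scheme.Modules.pullback i).obj (Omega.sheaf f)) ∧
      Nonempty (T.X₃ ≅ Omega.sheaf g) := by
  subst h
  exact exists_conormal_seq f i

variable (k : Type u) [Field k] {X : Scheme.{u}} [X.Over (Spec (CommRingCat.of k))]
  [IsProper (X ↘ Spec (CommRingCat.of k))] [Smooth (X ↘ Spec (CommRingCat.of k))]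

theorem lefschetz_core (Z : X.IdealSheafData) [Z.subscheme.Over (Spec (CommRingCat.of k))]
    [Z.subschemeι.IsOver (Spec (CommRingCat.of k))] [Smooth (Z.subscheme ↘ Spec (CommRingCat.of k))]
    (hI : PicF.IsInvertible (ClSub.idealMod Z)) (n : ℕ)
    (hvan : ∀ p j q : ℕ, 1 ≤ j → p + q < n → Subsingleton (Coh.HH X
      (CohB1.tensorMod (wedge (Omega.sheaf (X ↘ Spec (CommRingCat.of k))) p)
        (CohB1.tensorPow (ClSub.idealMod Z) j)) q))
    (p q : ℕ) (OmX : X.Modules) (OmY : Z.subscheme.Modules)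
    (hOX : ExtPow.IsExtPow p (Omega.sheaf (X ↘ Spec (CommRingCat.of k))) OmX)
    (hOY : ExtPow.IsExtPow p (Omega.sheaf (Z.subscheme ↘ Spec (CommRingCat.of k))) OmY) :
    (p + q + 1 < n → Module.finrank k (Coh.HH X OmX q) = Module.finrank k (Coh.HH Z.subscheme OmY q)) ∧
    (p + q + 1 = n → Module.finrank k (Coh.HH X OmX q) ≤ Module.finrank k (Coh.HH Z.subscheme OmY q)) := by
  haveI := Euler.isNoetherian_of_proper (X := X) k
  let i := Z.subschemeι
  let qY := Z.subscheme ↘ Spec (CommRingCat.of k)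
  haveI : IsProper qY := by
    show IsProper (Z.subscheme ↘ Spec (CommRingCat.of k))
    rw [← comp_over i (Spec (CommRingCat.of k))]
    infer_instance
  haveI : IsProper (Z.subscheme ↘ Spec (CommRingCat.of k)) := inferInstanceAs (IsProper qY)
  haveI : QuasiSeparated qY := inferInstance
  have hΩ : FlatMod.IsFinLocFree (Omega.sheaf (X ↘ Spec (CommRingCat.of k))) := OmegaAb15.isFinLocFree_omega _
  have hΩY : FlatMod.IsFinLocFree (Omega.sheaf qY) := OmegaAb15.isFinLocFree_omega _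
  let E : ℕ → X.Modules := fun p => wedge (Omega.sheaf (X ↘ Spec (CommRingCat.of k))) p
  have hE : ∀ p, FlatMod.IsFinLocFree (E p) := fun p => isFinLocFree_wedge hΩ p
  let W : ℕ → Z.subscheme.Modules := fun p => wedge (Omega.sheaf qY) p
  let A : ℕ → X.Modules := fun j => CohB1.tensorPow (ClSub.idealMod Z) j
  have hA : ∀ j, PicF.IsInvertible (A j) := fun j => Ample.isInvertible_tensorPow hI _
  let M : ℕ → Z.subscheme.Modules := fun j => (Scheme.Modules.pullback i).obj (A j)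
  have hM : ∀ j, FlatMod.IsFinLocFree (M j) := fun j =>
    OX.isFinLocFree_pullback i (Euler.isFinLocFree_of_isInvertible (hA j))
  have hshift : ∀ j, Nonempty (CohB1.tensorMod (ClSub.idealMod Z) (A j) ≅ A (j + 1)) := fun j =>
    ⟨GrTilde.tensorModComm (ClSub.idealMod Z) (A j)⟩
  obtain ⟨T, hT, ⟨t1⟩, ⟨t2⟩, ⟨t3⟩⟩ := exists_conormal_seq' (X ↘ Spec (CommRingCat.of k)) i qY (comp_over i (Spec (CommRingCat.of k)))
  have hcon : Nonempty (Omega.conormal i ≅ (Scheme.Modules.pullback i).obj (ClSub.idealMod Z)) := by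
    rw [Omega.conormal, Scheme.IdealSheafData.ker_subschemeι]
    exact ⟨Iso.refl _⟩
  obtain ⟨econ⟩ := hcon
  let eN : T.X₁ ≅ (Scheme.Modules.pullback i).obj (ClSub.idealMod Z) := t1 ≪≫ econ
  have hN1 : PicF.IsInvertible T.X₁ := GrothLib.ParaPair.isInvertible_of_iso eN (Ample.isInvertible_pullback i hI)
  have h2 : FlatMod.IsFinLocFree T.X₂ := DCoh.isFinLocFree_of_iso t2.symm (OX.isFinLocFree_pullback i hΩ)
  have h3 : FlatMod.IsFinLocFree T.X₃ := DCoh.isFinLocFree_of_iso t3.symm hΩY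
  have step : ∀ (p j : ℕ), ∃ R : ShortComplex Z.subscheme.Modules, R.ShortExact ∧
      Nonempty (R.X₁ ≅ CohB1.tensorMod (W p) (M (j + 1))) ∧
      Nonempty (R.X₂ ≅ (Scheme.Modules.pullback i).obj (CohB1.tensorMod (E (p + 1)) (A j))) ∧
      Nonempty (R.X₃ ≅ CohB1.tensorMod (W (p + 1)) (M j)) := by
    intro p j
    obtain ⟨U, hU, ⟨u1⟩, ⟨u2⟩, ⟨u3⟩⟩ := exists_wedge_seq hT hN1 h2 h3 p
    obtain ⟨w1⟩ := ExtPowX.nonempty_iso (isExtPow_wedge h3 p) (isExtPow_wedge hΩY p) t3
    obtain ⟨w2⟩ := ExtPowX.nonempty_iso (isExtPow_wedge h2 (p + 1))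
      (ExtPowX.isExtPow_pullback i hΩ (isExtPow_wedge hΩ (p + 1))) t2
    obtain ⟨w3⟩ := ExtPowX.nonempty_iso (isExtPow_wedge h3 (p + 1)) (isExtPow_wedge hΩY (p + 1)) t3
    obtain ⟨ea⟩ := hshift j
    exact ⟨U.map (Euler.tF (M j)), OX.tensor_map_shortExact (OX.flat_of_isFinLocFree (hM _)) hU,
      nonempty_left i ea u1 eN w1,
      nonempty_mid i (u2 ≪≫ w2),
      ⟨Ample.LineData.tensorModMapIso (u3 ≪≫ w3) (Iso.refl _)⟩⟩
  have hideal : ∀ p j q, p + q < n →
      Subsingleton (Coh.HH X (CohB1.tensorMod (ClSub.idealMod Z) (CohB1.tensorMod (E p) (A j))) q) := by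
    intro p j q hq
    obtain ⟨ea⟩ := hshift j
    let eb : CohB1.tensorMod (ClSub.idealMod Z) (CohB1.tensorMod (E p) (A j)) ≅ CohB1.tensorMod (E p) (A (j + 1)) :=
      swapIso ea
    haveI := hvan p (j + 1) q (by omega) hq
    exact (Euler.hhEquiv (A := k) eb q).toEquiv.subsingleton
  have hmid : ∀ p j q, 1 ≤ j → p + q + 1 < n → Subsingleton (Coh.HH Z.subscheme
      ((Scheme.Modules.pullback i).obj (CohB1.tensorMod (E p) (A j))) q) := fun p j q hj hq =>
    subsingleton_restrict k Z (OX.isFinLocFree_tensor (hE p) (Euler.isFinLocFree_of_isInvertible (hA j))) q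
      (hvan p j q hj (by omega)) (hideal p j (q + 1) (by omega))
  obtain ⟨eW0⟩ := ExtPowX.nonempty_iso (isExtPow_wedge hΩY 0)
    (ModelK.isExtPow_zero (Omega.sheaf qY)) (Iso.refl _)
  obtain ⟨eE0⟩ := ExtPowX.nonempty_iso (isExtPow_wedge hΩ 0)
    (ModelK.isExtPow_zero (Omega.sheaf (X ↘ Spec (CommRingCat.of k)))) (Iso.refl _)
  have key : ∀ (p j q : ℕ), 1 ≤ j → p + q + 1 < n → Subsingleton (Coh.HH Z.subscheme (CohB1.tensorMod (W p) (M j)) q) := by
    intro p
    induction p with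
    | zero =>
      intro j q hj hq
      haveI := hmid 0 j q hj (by omega)
      let e : CohB1.tensorMod (W 0) (M j) ≅ (Scheme.Modules.pullback i).obj (CohB1.tensorMod (E 0) (A j)) :=
        unitTwistIso eW0 (Iso.refl (M j)) ≪≫
          ((Scheme.Modules.pullback i).mapIso (unitTwistIso eE0 (Iso.refl (A j)))).symm
      exact (Euler.hhEquiv (A := k) e q).toEquiv.subsingleton
    | succ p ih =>
      intro j q hj hq
      obtain ⟨R, hR, ⟨r1⟩, ⟨r2⟩, ⟨r3⟩⟩ := step p j
      haveI := ih (j + 1) (q + 1) (by omega) (by omega)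
      have g1 : Subsingleton (Coh.HH Z.subscheme R.X₁ (q + 1)) := (Euler.hhEquiv (A := k) r1 (q + 1)).toEquiv.subsingleton
      haveI := hmid (p + 1) j q hj (by omega)
      have g2 : Subsingleton (Coh.HH Z.subscheme R.X₂ q) := (Euler.hhEquiv (A := k) r2 q).toEquiv.subsingleton
      haveI := OmegaPn27.subsingleton_X₃ (A := k) hR q g2 g1
      exact (Euler.hhEquiv (A := k) r3.symm q).toEquiv.subsingleton
  -- the ambient comparison
  obtain ⟨eX⟩ := ExtPowX.nonempty_iso hOX (isExtPow_wedge hΩ p) (Iso.refl _)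
  obtain ⟨eY⟩ := ExtPowX.nonempty_iso hOY (isExtPow_wedge hΩY p) (Iso.refl _)
  obtain ⟨S, hS, ⟨s1⟩, ⟨s2⟩, ⟨s3⟩⟩ := exists_restrict_seq Z (hE p)
  have hEA : Nonempty (E p ≅ CohB1.tensorMod (E p) (A 0)) := by
    exact ⟨(Euler.tFUnitIso (E p)).symm⟩
  obtain ⟨eEA⟩ := hEA
  have hSX1 : ∀ r, p + r < n → Subsingleton (Coh.HH X S.X₁ r) := fun r hr => by
    haveI := hideal p 0 r hr
    exact (Euler.hhEquiv (A := k) (s1 ≪≫ Ample.LineData.tensorModMapIso (Iso.refl _) eEA) r).toEquiv.subsingleton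
  obtain ⟨f3⟩ := nonempty_push_equiv k Z (Iso.refl ((Scheme.Modules.pullback i).obj (E p))) q
  have hX3 : Coh.IsCoh ((Scheme.Modules.pullback i).obj (E p)) :=
    Euler.isCoh_of_isFinLocFree (OX.isFinLocFree_pullback i (hE p))
  haveI := Euler.finiteDimensional_HH k hX3 q
  haveI : Module.Finite k (Coh.HH X S.X₃ q) :=
    Module.Finite.equiv ((Euler.hhEquiv (A := k) s3 q).trans f3).symm
  have lhs : Module.finrank k (Coh.HH X OmX q) = Module.finrank k (Coh.HH X S.X₂ q) :=
    (Euler.hhEquiv (A := k) (eX ≪≫ s2.symm) q).finrank_eq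
  have r3q : Module.finrank k (Coh.HH X S.X₃ q) =
      Module.finrank k (Coh.HH Z.subscheme ((Scheme.Modules.pullback i).obj (E p)) q) :=
    ((Euler.hhEquiv (A := k) s3 q).trans f3).finrank_eq
  have rhs : Module.finrank k (Coh.HH Z.subscheme OmY q) = Module.finrank k (Coh.HH Z.subscheme (W p) q) :=
    (Euler.hhEquiv (A := k) eY q).finrank_eq
  -- the second comparison
  have second : (p + q + 1 < n → Module.finrank k (Coh.HH Z.subscheme ((Scheme.Modules.pullback i).obj (E p)) q) =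
        Module.finrank k (Coh.HH Z.subscheme (W p) q)) ∧
      (p + q + 1 = n → Module.finrank k (Coh.HH Z.subscheme ((Scheme.Modules.pullback i).obj (E p)) q) ≤
        Module.finrank k (Coh.HH Z.subscheme (W p) q)) := by
    rcases p with _ | p
    · let e : (Scheme.Modules.pullback i).obj (E 0) ≅ W 0 :=
        (Scheme.Modules.pullback i).mapIso eE0 ≪≫ OX.pullUnitIso i ≪≫ eW0.symm
      exact ⟨fun _ => (Euler.hhEquiv (A := k) e q).finrank_eq, fun _ => (Euler.hhEquiv (A := k) e q).finrank_eq.le⟩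
    obtain ⟨R, hR, ⟨r1⟩, ⟨r2⟩, ⟨r3⟩⟩ := step p 0
    have hA0 : Nonempty (M 0 ≅ Coh.structureModule Z.subscheme) := by
      exact ⟨OX.pullUnitIso i⟩
    obtain ⟨eA0⟩ := hA0
    let e3 : R.X₃ ≅ W (p + 1) := r3 ≪≫ unitTwistIso' eA0 (Iso.refl (W (p + 1)))
    let e2 : R.X₂ ≅ (Scheme.Modules.pullback i).obj (E (p + 1)) := r2 ≪≫ (Scheme.Modules.pullback i).mapIso eEA.symm
    have g1 : ∀ r, p + r + 1 < n → Subsingleton (Coh.HH Z.subscheme R.X₁ r) := fun r hr => by
      haveI := key p 1 r le_rfl hr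
      exact (Euler.hhEquiv (A := k) r1 r).toEquiv.subsingleton
    haveI := Euler.finiteDimensional_HH k (Euler.isCoh_of_isFinLocFree (isFinLocFree_wedge hΩY (p + 1))) q
    haveI : Module.Finite k (Coh.HH Z.subscheme R.X₃ q) := Module.Finite.equiv (Euler.hhEquiv (A := k) e3 q).symm
    rw [← (Euler.hhEquiv (A := k) e2 q).finrank_eq, ← (Euler.hhEquiv (A := k) e3 q).finrank_eq]
    exact ⟨fun h => finrank_eq k hR q (g1 q (by omega)) (g1 (q + 1) (by omega)),
      fun h => finrank_le k hR q (g1 q (by omega))⟩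
  refine ⟨fun h => ?_, fun h => ?_⟩
  · rw [lhs, rhs, finrank_eq k hS q (hSX1 q (by omega)) (hSX1 (q + 1) (by omega)), r3q]
    exact second.1 h
  · rw [lhs, rhs]
    exact (finrank_le k hS q (hSX1 q (by omega))).trans (r3q.le.trans (second.2 h))

theorem isInverse_pow {L M : X.Modules} (hL : PicF.IsInvertible L) (hI : PicF.IsInvertible M) {d : ℕ}
    (h : ClSub.IsInverseOf M (CohB1.tensorPow L d)) (j : ℕ) :
    ClSub.IsInverseOf (CohB1.tensorPow M j) (CohB1.tensorPow L (d * j)) := by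
  have hLd := Ample.isInvertible_tensorPow hL d
  have h1 : Cube.clsMod hI * Cube.clsMod hL ^ d = 1 := by
    rw [← Cube.clsMod_tensorPow hL d, ← Cube.clsMod_tensorMod hI hLd]
    exact (Cube.clsMod_eq_one_iff _).2 h
  refine (Cube.clsMod_eq_one_iff (Ample.isInvertible_tensorMod (Ample.isInvertible_tensorPow hI j)
    (Ample.isInvertible_tensorPow hL (d * j)))).1 ?_
  rw [Cube.clsMod_tensorMod (Ample.isInvertible_tensorPow hI j) (Ample.isInvertible_tensorPow hL (d * j)),
    Cube.clsMod_tensorPow hI, Cube.clsMod_tensorPow hL, pow_mul, ← mul_pow, h1, one_pow]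

end GrothLib.HypVan12
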