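import Groth.Agent.Lib.HypVan12.Peel
import Groth.Agent.Lib.HypVan12.Core
import Groth.Agent.Lib.OmegaPn27.BottField
import Groth.Agent.Lib.CI20.Seq
import Groth.Agent.Lib.CI20.Induction
import Groth.Agent.Lib.CI20.Points
import Groth.Agent.Lib.HypCI12.Conormal
import Groth.Agent.Lib.DualSm27.Hodge
import Groth.Agent.Lib.HypCI12.Top

/-!
# Hodge numbers of smooth complete intersections off the middle dimension
-/

set_option autoImplicit false
set_option backward.isDefEq.respectTransparency false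
set_option maxHeartbeats 1000000
set_option linter.style.haveILetI false
set_option linter.unusedSectionVars false

universe u

open CategoryTheory CategoryTheory.Limits AlgebraicGeometry TopologicalSpace Opposite
open GrothLib.ExtPowX
open GrothLib.OmegaPn27 (Wt OD OmegaP)

noncomputable section

namespace GrothLib.HypVan12

section HD

variable (k : Type u) [Field k] {X : Scheme.{u}} [X.Over (Spec (CommRingCat.of k))]

/-- `H^q(M)` has dimension `c`. -/
def HD (M : X.Modules) (q c : ℕ) : Prop := Nonempty (Coh.HH X M q ≃ₗ[k] (Fin c → k))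

variable {k}

theorem HD.iso {M N : X.Modules} {q c : ℕ} (e : M ≅ N) (h : HD k N q c) : HD k M q c :=
  h.map fun f => (Euler.hhEquiv (A := k) e q).trans f

theorem hd_zero {M : X.Modules} {q : ℕ} (h : Subsingleton (Coh.HH X M q)) : HD k M q 0 :=
  ⟨LinearEquiv.ofSubsingleton _ _⟩

theorem HD.subsingleton {M : X.Modules} {q : ℕ} (h : HD k M q 0) : Subsingleton (Coh.HH X M q) :=
  h.some.toEquiv.subsingleton

theorem HD.finrank {M : X.Modules} {q c : ℕ} (h : HD k M q c) : Module.finrank k (Coh.HH X M q) = c := by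
  rw [h.some.finrank_eq, Module.finrank_fin_fun]

theorem HD.of_seq {S : ShortComplex X.Modules} (hS : S.ShortExact) {q c : ℕ} (h₁ : HD k S.X₁ q 0)
    (h₁' : HD k S.X₁ (q + 1) 0) (h₂ : HD k S.X₂ q c) : HD k S.X₃ q c :=
  h₂.map fun f => (LinearEquiv.ofBijective (Cohom.hhMap k S.g q)
    ⟨injective_g k hS q h₁.subsingleton,
      fun y => (Cohom.exact₃ (A := k) hS q y).1 (@Subsingleton.elim _ h₁'.subsingleton _ _)⟩).symm.trans f

end HD

/-- Moving a twist through a product. -/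
def twistThrough {X : Scheme.{u}} {K Q A B C W : X.Modules} (eK : K ≅ CohB1.tensorMod Q A)
    (g : CohB1.tensorMod B A ≅ C) :
    CohB1.tensorMod K (CohB1.tensorMod W B) ≅ CohB1.tensorMod Q (CohB1.tensorMod W C) :=
  Ample.LineData.tensorModMapIso eK (Iso.refl (CohB1.tensorMod W B)) ≪≫ OX.tensorAssoc Q A (CohB1.tensorMod W B) ≪≫
    Ample.LineData.tensorModMapIso (Iso.refl Q) (GrTilde.tensorModComm A (CohB1.tensorMod W B) ≪≫
      OX.tensorAssoc W B A ≪≫ Ample.LineData.tensorModMapIso (Iso.refl W) g)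

/-- The value of the diagonal Hodge numbers. -/
def δv (p q t : ℕ) : ℕ := if p = q ∧ t = 0 then 1 else 0

theorem δv_pos {p q t : ℕ} (h : 0 < t) : δv p q t = 0 := if_neg fun h' => by omega

theorem δv_zero_left (q t : ℕ) {q' : ℕ} (h : q = q') : δv 0 q t = δv 0 q' t := by rw [h]

variable {k : Type u} [Field k]

section Ambient

variable {N : ℕ}

theorem hd_bott (p q t : ℕ) (hq : q < N) : HD k (Wt N k p (-(t : ℤ))) q (δv p q t) := by
  rcases Nat.eq_zero_or_pos t with rfl | ht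
  · rw [show (-((0 : ℕ) : ℤ)) = 0 by simp]
    by_cases hpq : p = q
    · subst hpq
      rw [δv, if_pos ⟨rfl, rfl⟩]
      obtain ⟨e⟩ := OmegaPn27.nonempty_untwisted N k p hq.le
      exact ⟨e.trans (LinearEquiv.funUnique (Fin 1) k k).symm⟩
    · rw [δv, if_neg fun h => hpq h.1]
      exact hd_zero (OmegaPn27.subsingleton_untwisted N k p q hpq)
  · rw [δv_pos ht]
    exact hd_zero (OmegaPn27.subsingleton_neg N k (by omega) p q (Or.inl hq))

theorem isFinLocFree_Wt (p : ℕ) (s : ℤ) : FlatMod.IsFinLocFree (Wt N k p s) :=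
  ModelK.isFinLocFree_tensorMod (A := wedge (OmegaP N k) p) (B := OD N k s)
    (ExtPowX.isFinLocFree_wedge (OmegaPn27.isFinLocFree_omegaP N k) p)
    (Euler.isFinLocFree_of_isInvertible (ProjPic26.isInvertible_twistProjSpace N k s))

theorem nonempty_step_iso {Q K : (CohB1.ProjSpace N k).Modules} {c : ℕ}
    (eK : K ≅ CMReg.Ft Q (-(c : ℤ))) (p t : ℕ) :
    Nonempty (CohB1.tensorMod K (Wt N k p (-(t : ℤ))) ≅ CohB1.tensorMod Q (Wt N k p (-((t + c : ℕ) : ℤ)))) := by
  obtain ⟨g⟩ := OmegaPn27.nonempty_twist_add N k (-(t : ℤ)) (-(c : ℤ))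
  let g' : CohB1.tensorMod (OD N k (-(t : ℤ))) (OD N k (-(c : ℤ))) ≅ OD N k (-((t + c : ℕ) : ℤ)) :=
    g ≪≫ eqToIso (by rw [show (-(t : ℤ)) + -(c : ℤ) = -((t + c : ℕ) : ℤ) by push_cast; ring])
  exact ⟨twistThrough (X := CohB1.ProjSpace N k) eK g'⟩

/-- Forms of projective space restricted to a complete intersection. -/
theorem hd_ci : ∀ (r : ℕ) (a : Fin r → ℕ) (G : ∀ l, LefPen.Form N k (a l)), (∀ l, 1 ≤ a l) → CI20.RegForms G →
    ∀ p q t : ℕ, q + r < N →
      HD k (CohB1.tensorMod (ClSub.quotMod (LefPen.ciIdeal G)) (Wt N k p (-(t : ℤ)))) q (δv p q t) := by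
  intro r
  induction r with
  | zero =>
    intro a G _ _ p q t hq
    have hI : LefPen.ciIdeal G = ⊥ := le_bot_iff.1 (iSup_le fun l => l.elim0)
    haveI : IsIso (LefPen.ciIdeal G).subschemeι := (Scheme.isIso_subschemeι_iff_eq_bot _).2 hI
    haveI := CI20.isIso_unitToPush (LefPen.ciIdeal G).subschemeι
    let e : CohB1.tensorMod (ClSub.quotMod (LefPen.ciIdeal G)) (Wt N k p (-(t : ℤ))) ≅ Wt N k p (-(t : ℤ)) :=
      unitTwistIso (X := CohB1.ProjSpace N k) (asIso (ClSub.toSubscheme (LefPen.ciIdeal G))).symm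
        (Iso.refl (Wt N k p (-(t : ℤ))))
    exact (hd_bott p q t (by omega)).iso e
  | succ m ih =>
    intro a G ha hreg p q t hq
    have hI := ih (fun l => a l.castSucc) (fun l => G l.castSucc) (fun l => ha _) hreg.castSucc
    have hne : G (Fin.last m) ≠ 0 := fun h => hreg.ne_zero ha (Fin.last m) (by rw [h]; rfl)
    obtain ⟨K, ι, g, w, hS, ⟨eK⟩, -⟩ := CI20.exists_step G hreg hne
    have hS' : ((ShortComplex.mk ι g w).map (Euler.tF (Wt N k p (-(t : ℤ))))).ShortExact :=
      OX.tensor_map_shortExact (OX.flat_of_isFinLocFree (isFinLocFree_Wt p _)) hS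
    obtain ⟨e1⟩ := nonempty_step_iso eK p t
    have ha' := ha (Fin.last m)
    have h1 : ∀ r, r + m < N → HD k (CohB1.tensorMod K (Wt N k p (-(t : ℤ)))) r 0 := fun r hr => by
      have h := hI p r (t + a (Fin.last m)) hr
      rw [δv_pos (by omega)] at h
      exact h.iso e1
    exact HD.of_seq hS' (h1 q (by omega)) (h1 (q + 1) (by omega)) (hI p q t (by omega))

end Ambient

section CI

variable {N : ℕ} {Y : Scheme.{u}} [Y.Over (Spec (CommRingCat.of k))] (i : Y ⟶ CohB1.ProjSpace N k)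

/-- The restricted negative twist. -/
abbrev Tw (t : ℕ) : Y.Modules := (Scheme.Modules.pullback i).obj (Twist.twistProjSpace N k (-(t : ℤ)))

theorem nonempty_Tw_add (s t : ℕ) : Nonempty (CohB1.tensorMod (Tw i s) (Tw i t) ≅ Tw i (s + t)) := by
  obtain ⟨g⟩ := OmegaPn27.nonempty_twist_add N k (-(s : ℤ)) (-(t : ℤ))
  exact ⟨(OX.pullTensorIso i _ _).symm ≪≫ (Scheme.Modules.pullback i).mapIso
    (g ≪≫ eqToIso (by rw [show (-(s : ℤ)) + -(t : ℤ) = -((s + t : ℕ) : ℤ) by push_cast; ring]))⟩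

theorem nonempty_left_Tw {L L' W : Y.Modules} {U : Y.Modules} {c : ℕ} (t : ℕ) (eL : L ≅ Tw i c)
    (u : U ≅ CohB1.tensorMod L' W) (eL' : L' ≅ L) :
    Nonempty (CohB1.tensorMod U (Tw i t) ≅ CohB1.tensorMod W (Tw i (c + t))) := by
  obtain ⟨g⟩ := nonempty_Tw_add i c t
  exact ⟨Ample.LineData.tensorModMapIso
      (u ≪≫ Ample.LineData.tensorModMapIso (eL' ≪≫ eL) (Iso.refl W) ≪≫ GrTilde.tensorModComm _ _) (Iso.refl _) ≪≫
    OX.tensorAssoc _ _ _ ≪≫ Ample.LineData.tensorModMapIso (Iso.refl W) g⟩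

/-- The range in which the Hodge numbers of `B` are those of projective space. -/
def Good (n : ℕ) (B : Y.Modules) : Prop :=
  ∀ p q t : ℕ, p + q < n → HD k (CohB1.tensorMod (wedge B p) (Tw i t)) q (δv p q t)

variable {i}

theorem Good.of_iso {n : ℕ} {B B' : Y.Modules} (e : B ≅ B') (hB : FlatMod.IsFinLocFree B)
    (hB' : FlatMod.IsFinLocFree B') (h : Good i n B') : Good i n B := fun p q t hpq => by
  obtain ⟨w⟩ := ExtPowX.nonempty_iso (isExtPow_wedge hB p) (isExtPow_wedge hB' p) e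
  exact (h p q t hpq).iso (Ample.LineData.tensorModMapIso w (Iso.refl _))

/-- Dividing by a negative line bundle. -/
theorem Good.quot {n : ℕ} {U : ShortComplex Y.Modules} (hU : U.ShortExact) {c : ℕ} (hc : 1 ≤ c)
    (eL : U.X₁ ≅ Tw i c) (h₂ : FlatMod.IsFinLocFree U.X₂) (h₃ : FlatMod.IsFinLocFree U.X₃)
    (h : Good i n U.X₂) : Good i n U.X₃ := by
  have h₁ : PicF.IsInvertible U.X₁ := ParaPair.isInvertible_of_iso eL
    (Ample.isInvertible_pullback i (ProjPic26.isInvertible_twistProjSpace N k _))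
  intro p
  induction p with
  | zero =>
    intro q t hpq
    obtain ⟨w2⟩ := OmegaPn27.nonempty_wedge_zero h₂
    obtain ⟨w3⟩ := OmegaPn27.nonempty_wedge_zero h₃
    exact (h 0 q t hpq).iso (Ample.LineData.tensorModMapIso (w3 ≪≫ w2.symm) (Iso.refl _))
  | succ p ih =>
    intro q t hpq
    obtain ⟨V, hV, ⟨v1⟩, ⟨v2⟩, ⟨v3⟩⟩ := exists_wedge_seq hU h₁ h₂ h₃ p
    have hV' : (V.map (Euler.tF (Tw i t))).ShortExact :=
      OX.tensor_map_shortExact (OX.flat_of_isFinLocFree (OX.isFinLocFree_pullback i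
        (Euler.isFinLocFree_of_isInvertible (ProjPic26.isInvertible_twistProjSpace N k _)))) hV
    obtain ⟨e1⟩ := nonempty_left_Tw i t eL v1 (Iso.refl _)
    have g1 : ∀ r, p + r < n → HD k (CohB1.tensorMod V.X₁ (Tw i t)) r 0 := fun r hr => by
      have h' := ih r (c + t) hr
      rw [δv_pos (by omega)] at h'
      exact h'.iso e1
    have g2 : HD k (CohB1.tensorMod V.X₂ (Tw i t)) q (δv (p + 1) q t) :=
      (h (p + 1) q t hpq).iso (Ample.LineData.tensorModMapIso v2 (Iso.refl _))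
    exact (HD.of_seq hV' (g1 q (by omega)) (g1 (q + 1) (by omega)) g2).iso
      (Ample.LineData.tensorModMapIso v3.symm (Iso.refl _))

/-- Dividing by a sum of negative line bundles. -/
theorem Good.quot_sigma {n : ℕ} : ∀ (r : ℕ) (L : Fin r → Y.Modules) (c : Fin r → ℕ),
    (∀ l, 1 ≤ c l) → (∀ l, Nonempty (L l ≅ Tw i (c l))) → ∀ (S : ShortComplex Y.Modules), S.ShortExact →
    Nonempty (S.X₁ ≅ ∐ L) → FlatMod.IsFinLocFree S.X₂ → FlatMod.IsFinLocFree S.X₃ →
    Good i n S.X₂ → Good i n S.X₃ := by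
  intro r
  induction r with
  | zero =>
    intro L c _ _ S hS ⟨e⟩ h₂ h₃ h
    haveI : HasFiniteBiproducts Y.Modules := HasFiniteBiproducts.of_hasFiniteCoproducts
    have hz : IsZero S.X₁ := by
      refine ((IsZero.iff_id_eq_zero _).2 (Sigma.hom_ext _ _ fun l => l.elim0)).of_iso e
    haveI : IsIso S.g := PBDeg.isIso_g_of_isZero hS hz
    exact h.of_iso (asIso S.g).symm h₃ h₂
  | succ r ih =>
    intro L c hc hL S hS ⟨e⟩ h₂ h₃ h
    obtain ⟨U, V, hU, hV, ⟨u1⟩, ⟨u2⟩, ⟨v1⟩, ⟨v2⟩, ⟨v3⟩⟩ := exists_peel_sigma hS L e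
    have hTw : ∀ s, FlatMod.IsFinLocFree (Tw i s) := fun s => OX.isFinLocFree_pullback i
      (Euler.isFinLocFree_of_isInvertible (ProjPic26.isInvertible_twistProjSpace N k _))
    have hU2 : FlatMod.IsFinLocFree U.X₂ := DCoh.isFinLocFree_of_iso u2.symm h₂
    have hV1 : FlatMod.IsFinLocFree V.X₁ := DCoh.isFinLocFree_of_iso v1.symm
      (OX.isFinLocFree_sigma _ fun l => DCoh.isFinLocFree_of_iso (hL _).some.symm (hTw _))
    have hV3 : FlatMod.IsFinLocFree V.X₃ := DCoh.isFinLocFree_of_iso v3.symm h₃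
    have hV2 : FlatMod.IsFinLocFree V.X₂ := K0Sub.isFinLocFree_ext V hV hV1 hV3
    have hU3 : FlatMod.IsFinLocFree U.X₃ := DCoh.isFinLocFree_of_iso v2 hV2
    have hU' : Good i n U.X₃ :=
      Good.quot hU (hc _) (u1 ≪≫ (hL _).some) hU2 hU3 (h.of_iso u2 hU2 h₂)
    have hV' : Good i n V.X₃ := ih (fun l => L l.castSucc) (fun l => c l.castSucc) (fun l => hc _) (fun l => hL _)
      V hV ⟨v1⟩ hV2 hV3 (hU'.of_iso v2 hV2 hU3)
    exact hV'.of_iso v3.symm h₃ hV3

end CI

theorem nonempty_quot_pull {N : ℕ} (I : (CohB1.ProjSpace N k).IdealSheafData) {F : (CohB1.ProjSpace N k).Modules}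
    (hF : FlatMod.IsFinLocFree F) :
    Nonempty (CohB1.tensorMod (ClSub.quotMod I) F ≅
      (Scheme.Modules.pushforward I.subschemeι).obj ((Scheme.Modules.pullback I.subschemeι).obj F)) := by
  haveI := ProjFormula.isIso_projHom I.subschemeι hF (Coh.structureModule I.subscheme)
  exact ⟨GrTilde.tensorModComm _ _ ≪≫ asIso (ProjFormula.projHom I.subschemeι F (Coh.structureModule I.subscheme)) ≪≫
    (Scheme.Modules.pushforward I.subschemeι).mapIso (GrTilde.tensorModComm _ _ ≪≫ OX.tensorUnitLeftIso _)⟩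

/-- The Hodge numbers of a smooth complete intersection off the middle dimension. -/
theorem finrank_hodge (n d : ℕ) (a : Fin d → ℕ) (ha : ∀ j, 1 ≤ a j) (G : ∀ j : Fin d, LefPen.Form (n + d) k (a j))
    [SmoothOfRelativeDimension n ((LefPen.ciIdeal G).subschemeι ≫ CohB1.ProjSpace.toSpec (n + d) k)]
    [(LefPen.ciIdeal G).subscheme.Over (Spec (CommRingCat.of k))]
    (hover : (LefPen.ciIdeal G).subscheme ↘ Spec (CommRingCat.of k) =
      (LefPen.ciIdeal G).subschemeι ≫ CohB1.ProjSpace.toSpec (n + d) k)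
    (p q : ℕ) (hne : p + q ≠ n) (L : (LefPen.ciIdeal G).subscheme.Modules)
    (hL : ExtPow.IsExtPow p (Omega.sheaf ((LefPen.ciIdeal G).subschemeι ≫ CohB1.ProjSpace.toSpec (n + d) k)) L) :
    HD k L q (if p = q ∧ p ≤ n then 1 else 0) := by
  let I := LefPen.ciIdeal G
  let i := I.subschemeι
  haveI : i.IsOver (Spec (CommRingCat.of k)) := ⟨hover.symm⟩
  let qY := i ≫ CohB1.ProjSpace.toSpec (n + d) k
  haveI hsm : SmoothOfRelativeDimension n qY := by assumption
  haveI : Smooth qY := SmoothOfRelativeDimension.smooth n _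
  haveI : QuasiSeparated qY := inferInstance
  haveI := OmegaPn27.smoothOfRelativeDimension_toSpec (n + d) k
  haveI : Smooth (CohB1.ProjSpace.toSpec (n + d) k) := SmoothOfRelativeDimension.smooth (n + d) _
  haveI := Chow.isProper_toSpec (n + d) k
  haveI : Nonempty I.subscheme := HypCI12.nonempty_ci G (by omega) ha
  have hdimY : topologicalKrullDim I.subscheme = (n : WithBot ℕ∞) := Transversal.dim_eq_of_smooth qY n
  have hdim : topologicalKrullDim I.subscheme = ((n + d - d : ℕ) : WithBot ℕ∞) := by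
    rw [hdimY, Nat.add_sub_cancel]
  have hreg := CI20.regForms G (by omega) ha hdim
  have hΩ : FlatMod.IsFinLocFree (OmegaP (n + d) k) := OmegaPn27.isFinLocFree_omegaP _ _
  have hΩY : FlatMod.IsFinLocFree (Omega.sheaf qY) := OmegaAb15.isFinLocFree_omega _
  obtain ⟨T, hT, ⟨t1⟩, ⟨t2⟩, ⟨t3⟩⟩ := exists_conormal_seq (CohB1.ProjSpace.toSpec (n + d) k) i
  have h2 : FlatMod.IsFinLocFree T.X₂ := DCoh.isFinLocFree_of_iso t2.symm (OX.isFinLocFree_pullback i hΩ)
  have h3 : FlatMod.IsFinLocFree T.X₃ := DCoh.isFinLocFree_of_iso t3.symm hΩY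
  obtain ⟨econ⟩ := HypCI12.nonempty_conormal G (by omega) ha hdim
  have base : Good i n ((Scheme.Modules.pullback i).obj (OmegaP (n + d) k)) := fun p' q' t hpq => by
    obtain ⟨w⟩ := ExtPowX.nonempty_iso (isExtPow_wedge (OX.isFinLocFree_pullback i hΩ) p')
      (ExtPowX.isExtPow_pullback i hΩ (isExtPow_wedge hΩ p')) (Iso.refl _)
    obtain ⟨u⟩ := nonempty_quot_pull I (isFinLocFree_Wt (N := n + d) (k := k) p' (-(t : ℤ)))
    obtain ⟨f⟩ := nonempty_push_equiv k I
      (Iso.refl ((Scheme.Modules.pullback i).obj (Wt (n + d) k p' (-(t : ℤ))))) q'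
    obtain ⟨g⟩ := (hd_ci d a G ha hreg p' q' t (by omega)).iso u.symm
    exact (show HD k ((Scheme.Modules.pullback i).obj (Wt (n + d) k p' (-(t : ℤ)))) q' _ from
      ⟨f.symm.trans g⟩).iso (Ample.LineData.tensorModMapIso w (Iso.refl _) ≪≫ (OX.pullTensorIso i _ _).symm)
  have good : Good i n (Omega.sheaf qY) := by
    refine (Good.quot_sigma d (fun l => Tw i (a l)) a ha (fun l => ⟨Iso.refl _⟩) T hT ⟨t1 ≪≫ econ⟩ h2 h3
      (base.of_iso t2 h2 (OX.isFinLocFree_pullback i hΩ))).of_iso t3.symm hΩY h3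
  have low : ∀ (p' q' : ℕ) (L' : I.subscheme.Modules), ExtPow.IsExtPow p' (Omega.sheaf qY) L' → p' + q' < n →
      HD k L' q' (δv p' q' 0) := fun p' q' L' hL' hpq => by
    obtain ⟨w⟩ := ExtPowX.nonempty_iso hL' (isExtPow_wedge hΩY p') (Iso.refl _)
    obtain ⟨z⟩ := GrTilde.nonempty_structureModule_iso_twist_zero (CohB1.polyGrading (n + d) k)
    let z' : Twist.twistProjSpace (n + d) k (-((0 : ℕ) : ℤ)) ≅ Coh.structureModule (CohB1.ProjSpace (n + d) k) :=
      eqToIso (by rw [Nat.cast_zero, neg_zero]; rfl) ≪≫ z.symm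
    exact (good p' q' 0 hpq).iso (w ≪≫ (Euler.tFUnitIso _).symm ≪≫
      Ample.LineData.tensorModMapIso (Iso.refl _) ((Scheme.Modules.pullback i).mapIso z' ≪≫ OX.pullUnitIso i).symm)
  rcases Nat.lt_or_ge (p + q) n with h | h
  · have := low p q L hL h
    rwa [δv, show (if p = q ∧ (0 : ℕ) = 0 then 1 else 0) = (if p = q ∧ p ≤ n then 1 else 0) from
      if_congr (by omega) rfl rfl] at this
  haveI : IsProper qY := inferInstance
  haveI : IsProper (I.subscheme ↘ Spec (CommRingCat.of k)) := by rw [hover]; infer_instance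
  haveI := Euler.isNoetherian_of_proper (X := I.subscheme) k
  have hLf : FlatMod.IsFinLocFree L := ExtPowX.isFinLocFree_extPow hΩY hL
  by_cases hp : p ≤ n
  · by_cases hq : q ≤ n
    · haveI : SmoothOfRelativeDimension n (I.subscheme ↘ Spec (CommRingCat.of k)) := by rw [hover]; exact hsm
      have hsymm := DualSm27.finrank_extPow_symm k (n + d) n I.subscheme i hover.symm p q hp hq L
        (wedge (Omega.sheaf qY) (n - p)) (by rw [hover]; exact hL) (by rw [hover]; exact isExtPow_wedge hΩY (n - p))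
      rw [(low (n - p) (n - q) _ (isExtPow_wedge hΩY _) (by omega)).finrank, δv] at hsymm
      rw [show (if p = q ∧ p ≤ n then 1 else 0 : ℕ) = if n - p = n - q ∧ (0 : ℕ) = 0 then 1 else 0 from
        if_congr (by omega) rfl rfl, ← hsymm]
      haveI := Euler.finiteDimensional_HH k (Euler.isCoh_of_isFinLocFree hLf) q
      exact ⟨(Module.finBasis k _).equivFun⟩
    · rw [if_neg (by omega)]
      haveI : NoetherianSpace ↥I.subscheme := inferInstance
      exact hd_zero (GVanish.subsingleton_H_of_krullDim_le (X := TopCat.of ↥I.subscheme) n hdimY.le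
        (Coh.toAb L) q (by omega))
  · rw [if_neg (by omega)]
    obtain ⟨w⟩ := ExtPowX.nonempty_iso hL (isExtPow_wedge hΩY p) (Iso.refl _)
    exact hd_zero (SerrePn27.subsingleton_HH_of_isZero (k := k)
      ((isZero_wedge_omega qY hdimY (by omega)).of_iso w) q)

end GrothLib.HypVan12
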