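import Mathlib.RingTheory.Binomial
import Mathlib.RingTheory.PowerSeries.Basic
import Mathlib.Algebra.Polynomial.Coeff
import Mathlib.Tactic

/-!
# The generating series of the Euler characteristics of twisted forms on projective spaces
-/

set_option autoImplicit false
set_option linter.all false

open Polynomial

noncomputable section

namespace GrothLib.HypVan12

/-- The Euler characteristic of `Ω^p(s)` on `P^N`, by the Euler sequence recursion. -/
def fc (N : ℕ) : ℕ → ℤ → ℤ
  | 0, s => Ring.choose (s + N) N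
  | p + 1, s => ((N + 1).choose (p + 1) : ℤ) * Ring.choose (s - (p + 1 : ℕ) + N) N - fc N p s

/-- The preceding value. -/
def fcp (N : ℕ) : ℕ → ℤ → ℤ
  | 0, _ => 0
  | p + 1, s => fc N p s

theorem fc_eq (N p : ℕ) (s : ℤ) :
    fc N p s = ((N + 1).choose p : ℤ) * Ring.choose (s - (p : ℕ) + N) N - fcp N p s := by
  cases p <;> simp [fc, fcp]

theorem choose_step (r : ℤ) (N : ℕ) : Ring.choose (r + 1) (N + 1) = Ring.choose r N + Ring.choose r (N + 1) :=
  Ring.choose_succ_succ r N

theorem fc_rec (N p : ℕ) : ∀ s : ℤ, fc (N + 1) p s = fc N p s + fc (N + 1) p (s - 1) + fcp N p (s - 1) := by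
  induction p with
  | zero =>
    intro s
    simp only [fc, fcp, add_zero]
    have h := choose_step (s + N) N
    rw [show s + ((N + 1 : ℕ) : ℤ) = s + N + 1 by push_cast; ring,
      show s - 1 + ((N + 1 : ℕ) : ℤ) = s + N by push_cast; ring]
    linarith
  | succ p ih =>
    intro s
    have h := choose_step (s - (p + 1 : ℕ) + N) N
    have e1 := fc_eq N p (s - 1)
    have e2 := ih s
    simp only [fc, fcp]
    rw [show s - ((p + 1 : ℕ) : ℤ) + ((N + 1 : ℕ) : ℤ) = s - ((p + 1 : ℕ) : ℤ) + N + 1 by push_cast; ring,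
      show s - 1 - ((p + 1 : ℕ) : ℤ) + ((N + 1 : ℕ) : ℤ) = s - ((p + 1 : ℕ) : ℤ) + N by push_cast; ring, h]
    rw [show s - 1 - (p : ℤ) + (N : ℤ) = s - ((p + 1 : ℕ) : ℤ) + N by push_cast; ring] at e1
    have hc : ((N + 1 + 1).choose (p + 1) : ℤ) = ((N + 1).choose p : ℤ) + ((N + 1).choose (p + 1) : ℤ) := by
      exact_mod_cast Nat.choose_succ_succ (N + 1) p
    rw [hc]
    linear_combination -e1 - e2

theorem choose_nat_lt {j N : ℕ} (h : j < N) : Ring.choose (j : ℤ) N = 0 := by
  rw [Ring.choose_natCast, Nat.choose_eq_zero_of_lt h]; simp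

theorem fc_at_zero (N : ℕ) : ∀ p, p ≤ N → fc N p 0 = (-1) ^ p
  | 0, _ => by simp [fc, Ring.choose_natCast]
  | p + 1, h => by
    obtain ⟨j, rfl⟩ : ∃ j, N = p + 1 + j := ⟨N - (p + 1), by omega⟩
    rw [fc, fc_at_zero _ p (by omega), show (0 : ℤ) - ((p + 1 : ℕ) : ℤ) + ((p + 1 + j : ℕ) : ℤ) = (j : ℤ) by
      push_cast; ring, choose_nat_lt (by omega), pow_succ]
    ring

theorem const_of_step {f : ℤ → ℤ} (h : ∀ s, f s = f (s - 1)) (s : ℤ) : f s = f 0 := by
  induction s using Int.induction_on with
  | zero => rfl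
  | succ n ih => rw [h, add_sub_cancel_right, ih]
  | pred n ih => rw [← h, ih]

theorem fc_gt : ∀ (N p : ℕ), N < p → ∀ s : ℤ, fc N p s = 0 := by
  intro N
  induction N with
  | zero =>
    intro p
    induction p with
    | zero => intro h; omega
    | succ p ih =>
      intro _ s
      rcases p with _ | p
      · simp [fc]
      · rw [fc, ih (by omega) s]
        simp [Nat.choose_eq_zero_of_lt]
  | succ N ihN =>
    intro p
    induction p with
    | zero => intro h; omega
    | succ p ih =>
      intro h s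
      have hstep : ∀ t, fc (N + 1) (p + 1) t = fc (N + 1) (p + 1) (t - 1) := fun t => by
        rw [fc_rec N (p + 1) t, ihN (p + 1) (by omega) t]
        simp [fcp, ihN p (by omega)]
      rw [const_of_step (f := fun t => fc (N + 1) (p + 1) t) hstep s]
      show fc (N + 1) (p + 1) 0 = 0
      rcases Nat.lt_or_ge (N + 1) p with h' | h'
      · rw [fc, ih h' 0, Nat.choose_eq_zero_of_lt (by omega)]; simp
      · obtain rfl : p = N + 1 := by omega
        rw [fc, fc_at_zero _ (N + 1) le_rfl, Nat.choose_self,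
          show (0 : ℤ) - ((N + 1 + 1 : ℕ) : ℤ) + ((N + 1 : ℕ) : ℤ) = -(1 : ℤ) by push_cast; ring,
          Ring.choose_neg, show (1 : ℤ) + ((N + 1 : ℕ) : ℤ) - 1 = ((N + 1 : ℕ) : ℤ) by ring, Ring.choose_natCast,
          Nat.choose_self, Units.smul_def, Int.negOnePow_def]
        simp
        rw [show ((N : ℤ) + 1) = ((N + 1 : ℕ) : ℤ) by push_cast; ring, zpow_natCast]
        push_cast
        ring

/-- The twisted genus of `P^N`. -/
def genP (N : ℕ) (s : ℤ) : Polynomial ℤ := ∑ p ∈ Finset.range (N + 1), C (fc N p s) * X ^ p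

theorem coeff_sum_range {f : ℕ → ℤ} {N : ℕ} (h : ∀ p, N < p → f p = 0) (j : ℕ) :
    (∑ p ∈ Finset.range (N + 1), C (f p) * X ^ p).coeff j = f j := by
  simp only [finset_sum_coeff, coeff_C_mul_X_pow]
  rw [Finset.sum_ite_eq]
  split_ifs with hj
  · rfl
  · exact (h j (by simpa using hj)).symm

theorem coeff_genP (N j : ℕ) (s : ℤ) : (genP N s).coeff j = fc N j s :=
  coeff_sum_range (fun p hp => fc_gt N p hp s) j

theorem genP_step (N : ℕ) (s : ℤ) :
    genP (N + 1) s = genP N s + genP (N + 1) (s - 1) + X * genP N (s - 1) := by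
  ext j
  rcases j with _ | j
  · simp [coeff_genP, fc_rec N 0 s, fcp]
  · simp [coeff_genP, fc_rec N (j + 1) s, fcp]

theorem genP_zero (s : ℤ) : genP 0 s = 1 := by simp [genP, fc]

local notation "y" => (PowerSeries.C (X : Polynomial ℤ) : PowerSeries (Polynomial ℤ))
local notation "z" => (PowerSeries.X : PowerSeries (Polynomial ℤ))

/-- The series over all `N`. -/
def genS (s : ℤ) : PowerSeries (Polynomial ℤ) := PowerSeries.mk fun N => genP N s

theorem genS_step (s : ℤ) : (1 - z) * genS s = (1 + y * z) * genS (s - 1) := by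
  refine PowerSeries.ext fun N => ?_
  rw [sub_mul, one_mul, add_mul, one_mul, mul_assoc, map_sub, map_add, PowerSeries.coeff_C_mul]
  rcases N with _ | N
  · simp [genS, genP_zero]
  · rw [PowerSeries.coeff_succ_X_mul, PowerSeries.coeff_succ_X_mul]
    simp only [genS, PowerSeries.coeff_mk, genP_step N s]
    ring

theorem genS_pow (s : ℤ) : ∀ m : ℕ, (1 - z) ^ m * genS s = (1 + y * z) ^ m * genS (s - m)
  | 0 => by simp
  | m + 1 => by
    rw [pow_succ', mul_assoc, genS_pow s m, mul_left_comm, genS_step, ← mul_assoc, ← pow_succ]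
    congr 2
    push_cast
    ring

theorem genS_zero : (1 - z) * (1 + y * z) * genS 0 = 1 := by
  have h : (1 + y * z) * genS 0 = PowerSeries.mk fun _ => (1 : Polynomial ℤ) := by
    refine PowerSeries.ext fun N => ?_
    rw [add_mul, one_mul, mul_assoc, map_add, PowerSeries.coeff_C_mul]
    rcases N with _ | N
    · simp [genS, genP_zero]
    · rw [PowerSeries.coeff_succ_X_mul]
      simp only [genS, PowerSeries.coeff_mk]
      ext j
      rcases j with _ | j
      · simp [coeff_genP, fc_at_zero (N + 1) 0 (by omega)]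
      · simp only [coeff_add, coeff_X_mul, coeff_genP]
        rcases Nat.lt_or_ge N j with h | h
        · rw [fc_gt (N + 1) (j + 1) (by omega), fc_gt N j h]
          simp [Polynomial.coeff_one]
        · rw [fc_at_zero (N + 1) (j + 1) (by omega), fc_at_zero N j h, pow_succ]
          simp [Polynomial.coeff_one]
  rw [mul_assoc, h]
  refine PowerSeries.ext fun N => ?_
  rw [sub_mul, one_mul, map_sub]
  rcases N with _ | N
  · simp
  · rw [PowerSeries.coeff_succ_X_mul]; simp

theorem eq_zero_of_rec (Δ : ℤ → PowerSeries (Polynomial ℤ)) (a : ℤ) (h : ∀ s, Δ s + y * Δ (s - a) = 0) (s : ℤ) :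
    Δ s = 0 := by
  have key : ∀ (j N : ℕ) (s : ℤ), (PowerSeries.coeff N (Δ s)).coeff j = 0 := by
    intro j
    induction j with
    | zero =>
      intro N s
      have e := congrArg (fun t => (PowerSeries.coeff N t).coeff 0) (h s)
      simpa [PowerSeries.coeff_C_mul] using e
    | succ j ih =>
      intro N s
      have e := congrArg (fun t => (PowerSeries.coeff N t).coeff (j + 1)) (h s)
      simpa [PowerSeries.coeff_C_mul, ih N (s - a)] using e
  exact PowerSeries.ext fun N => Polynomial.ext fun j => by simpa using key j N s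

/-- The solution of the divisor recursion. -/
theorem hirzebruch_identity (a : ℕ) (Cs : ℤ → PowerSeries (Polynomial ℤ))
    (h : ∀ s, Cs s + y * Cs (s - a) = genS s - genS (s - a)) :
    (1 - z) * (1 + y * z) * ((1 + y * z) ^ a + y * (1 - z) ^ a) * Cs 0 = (1 + y * z) ^ a - (1 - z) ^ a := by
  have hΔ := eq_zero_of_rec
    (fun s => ((1 + y * z) ^ a + y * (1 - z) ^ a) * Cs s - ((1 + y * z) ^ a - (1 - z) ^ a) * genS s) a
    (fun s => by
      have h1 := h s
      have h2 := genS_pow s a
      linear_combination ((1 + y * z) ^ a + y * (1 - z) ^ a) * h1 + (1 + y) * h2) 0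
  have h3 := genS_zero
  linear_combination (1 - z) * (1 + y * z) * hΔ + ((1 + y * z) ^ a - (1 - z) ^ a) * h3

end GrothLib.HypVan12
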