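import Groth.Agent.Lib.HypVan12.CI
import Groth.Agent.Lib.HypVan12.ChiYComb
import Groth.Agent.Lib.ProjCohom.Corollaries
import Groth.Agent.Lib.TensorPerf20.FlatKernel
import Groth.Agent.Lib.Snapper.Intersection

/-!
# Euler characteristics of twisted forms on a smooth hypersurface
-/

set_option autoImplicit false
set_option backward.isDefEq.respectTransparency false
set_option maxHeartbeats 1000000
set_option linter.style.haveILetI false
set_option linter.unusedSectionVars false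

universe u

open CategoryTheory CategoryTheory.Limits AlgebraicGeometry TopologicalSpace Opposite
open GrothLib.ExtPowX
open GrothLib.OmegaPn27 (Wt OD OmegaP Mid)

noncomputable section

namespace GrothLib.HypVan12

variable {k : Type u} [Field k]

theorem euler_Wt (N : ℕ) (hN : 1 ≤ N) : ∀ (p : ℕ) (s : ℤ),
    Curv2.euler k (CohB1.ProjSpace N k) (Wt N k p s) = fc N p s := by
  haveI hP : IsProper (CohB1.ProjSpace N k ↘ Spec (CommRingCat.of k)) := Chow.isProper_toSpec N k
  haveI := Euler.isNoetherian_of_proper (X := CohB1.ProjSpace N k) k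
  have hW : ∀ p s, Coh.IsCoh (Wt N k p s) := fun p s => Euler.isCoh_of_isFinLocFree (isFinLocFree_Wt p s)
  have hO : ∀ s, FlatMod.IsFinLocFree (OD N k s) := fun s =>
    Euler.isFinLocFree_of_isInvertible (ProjPic26.isInvertible_twistProjSpace N k s)
  have hOD : ∀ s, Curv2.euler k (CohB1.ProjSpace N k) (OD N k s) = Ring.choose (s + N) N := fun s => by
    haveI := (Euler.isCoh_of_isFinLocFree (hO s)).1
    rw [Euler.euler_eq_sum k (OD N k s) (N := N + 1)
      (fun q hq => RegSheaf.subsingleton_HH_ring_of_lt _ (by omega))]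
    exact ProjCohom.euler_twist k N (by omega) s
  intro p
  induction p with
  | zero =>
    intro s
    obtain ⟨e⟩ := OmegaPn27.nonempty_Wt_zero_left N k s
    rw [Euler.euler_of_iso k e, hOD, fc]
  | succ p ih =>
    intro s
    obtain ⟨T, hT, ⟨a₁⟩, ⟨a₂⟩, ⟨a₃⟩⟩ := OmegaPn27.exists_seq' N k p s
    have hM : Coh.IsCoh (Mid N k p s) := Euler.isCoh_of_isFinLocFree (OX.isFinLocFree_sigma _ fun _ => hO _)
    have hadd := Euler.euler_additive k hT (QCoh.isCoh_of_iso a₁.symm (hW _ _)) (QCoh.isCoh_of_iso a₂.symm hM)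
      (QCoh.isCoh_of_iso a₃.symm (hW _ _))
    rw [Euler.euler_of_iso k a₁, Euler.euler_of_iso k a₂, Euler.euler_of_iso k a₃, ih] at hadd
    have hm : Curv2.euler k (CohB1.ProjSpace N k) (Mid N k p s) =
        ((N + 1).choose (p + 1) : ℤ) * Ring.choose (s - ((p + 1 : ℕ) : ℤ) + N) N := by
      haveI := hM.1
      haveI := (Euler.isCoh_of_isFinLocFree (hO (s - ((p + 1 : ℕ) : ℤ)))).1
      rw [← hOD, Euler.euler_eq_sum k (Mid N k p s) (N := N + 1)
          (fun q hq => RegSheaf.subsingleton_HH_ring_of_lt _ (by omega)),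
        Euler.euler_eq_sum k (OD N k (s - ((p + 1 : ℕ) : ℤ))) (N := N + 1)
          (fun q hq => RegSheaf.subsingleton_HH_ring_of_lt _ (by omega)), Finset.mul_sum]
      refine Finset.sum_congr rfl fun q _ => ?_
      obtain ⟨e⟩ := OmegaPn27.nonempty_HH_sigma (A := k) (OD N k (s - ((p + 1 : ℕ) : ℤ))) ((N + 1).choose (p + 1)) q
      haveI := Euler.finiteDimensional_HH k (Euler.isCoh_of_isFinLocFree (hO (s - ((p + 1 : ℕ) : ℤ)))) q
      rw [show Module.finrank k (Coh.HH (CohB1.ProjSpace N k) (Mid N k p s) q) = _ from e.finrank_eq,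
        Module.finrank_pi_fintype, Finset.sum_const, Finset.card_univ, Fintype.card_fin, smul_eq_mul]
      push_cast
      ring
    rw [hm] at hadd
    rw [fc]
    linarith

section Moves

variable {X Y : Scheme.{u}}

/-- Absorbing a line bundle into a twist. -/
def moveTwist {K W B A C : X.Modules} (eK : K ≅ A) (g : CohB1.tensorMod B A ≅ C) :
    CohB1.tensorMod K (CohB1.tensorMod W B) ≅ CohB1.tensorMod W C :=
  Ample.LineData.tensorModMapIso eK (Iso.refl (CohB1.tensorMod W B)) ≪≫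
    GrTilde.tensorModComm A (CohB1.tensorMod W B) ≪≫ OX.tensorAssoc W B A ≪≫
      Ample.LineData.tensorModMapIso (Iso.refl W) g

/-- Absorbing the conormal bundle into a twist. -/
def moveConormal {U N A W' W B C : X.Modules} (u : U ≅ CohB1.tensorMod N W') (eN : N ≅ A) (w : W' ≅ W)
    (g : CohB1.tensorMod A B ≅ C) : CohB1.tensorMod U B ≅ CohB1.tensorMod W C :=
  Ample.LineData.tensorModMapIso (u ≪≫ Ample.LineData.tensorModMapIso eN w ≪≫ GrTilde.tensorModComm A W)
      (Iso.refl B) ≪≫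
    OX.tensorAssoc W A B ≪≫ Ample.LineData.tensorModMapIso (Iso.refl W) g

/-- A twisted restriction. -/
def moveMid (i : Y ⟶ X) {U : Y.Modules} {E O : X.Modules} (u : U ≅ (Scheme.Modules.pullback i).obj E) :
    CohB1.tensorMod U ((Scheme.Modules.pullback i).obj O) ≅ (Scheme.Modules.pullback i).obj (CohB1.tensorMod E O) :=
  Ample.LineData.tensorModMapIso u (Iso.refl _) ≪≫ (OX.pullTensorIso i E O).symm

theorem isCoh_quot [IsLocallyNoetherian X] (I : X.IdealSheafData) : Coh.IsCoh (ClSub.quotMod I) :=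
  QCoh.pushUnit_isCoh I.subschemeι

theorem isCoh_twist [IsLocallyNoetherian X] {M F : X.Modules} (h : Coh.IsCoh M) (hF : FlatMod.IsFinLocFree F) :
    Coh.IsCoh (CohB1.tensorMod M F) :=
  Euler.isCoh_tF h hF

theorem isCoh_push_pull [IsLocallyNoetherian X] (I : X.IdealSheafData) {F S₃ : X.Modules}
    (hF : FlatMod.IsFinLocFree F) (u : CohB1.tensorMod (ClSub.quotMod I) F ≅ S₃) : Coh.IsCoh S₃ :=
  QCoh.isCoh_of_iso u (isCoh_twist (isCoh_quot I) hF)

end Moves

variable {n a : ℕ}

/-- The recursion for the Euler characteristics of twisted forms on a smooth hypersurface. -/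
theorem exists_chi (ha : 1 ≤ a) (G : LefPen.Form (n + 1) k a)
    [hsm : SmoothOfRelativeDimension n ((LefPen.hypIdeal G).subschemeι ≫ CohB1.ProjSpace.toSpec (n + 1) k)]
    [(LefPen.hypIdeal G).subscheme.Over (Spec (CommRingCat.of k))]
    (hover : (LefPen.hypIdeal G).subscheme ↘ Spec (CommRingCat.of k) =
      (LefPen.hypIdeal G).subschemeι ≫ CohB1.ProjSpace.toSpec (n + 1) k) :
    ∃ c : ℕ → ℤ → ℤ, (∀ p s, n < p → c p s = 0) ∧
      (∀ s, c 0 s = fc (n + 1) 0 s - fc (n + 1) 0 (s - a)) ∧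
      (∀ p s, c p (s - a) + c (p + 1) s = fc (n + 1) (p + 1) s - fc (n + 1) (p + 1) (s - a)) ∧
      ∀ (p : ℕ) (L : (LefPen.hypIdeal G).subscheme.Modules),
        ExtPow.IsExtPow p (Omega.sheaf ((LefPen.hypIdeal G).subschemeι ≫ CohB1.ProjSpace.toSpec (n + 1) k)) L →
        (∑ q ∈ Finset.range (n + 1), (-1 : ℤ) ^ q *
          (Module.finrank k (Coh.HH (LefPen.hypIdeal G).subscheme L q) : ℤ)) = c p 0 := by
  let I := LefPen.hypIdeal G
  let i := I.subschemeι
  haveI : i.IsOver (Spec (CommRingCat.of k)) := ⟨hover.symm⟩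
  let qY := i ≫ CohB1.ProjSpace.toSpec (n + 1) k
  haveI hsm' : SmoothOfRelativeDimension n qY := hsm
  haveI : Smooth qY := SmoothOfRelativeDimension.smooth n _
  haveI hP : IsProper (CohB1.ProjSpace (n + 1) k ↘ Spec (CommRingCat.of k)) := Chow.isProper_toSpec (n + 1) k
  haveI := Chow.isProper_toSpec (n + 1) k
  haveI : QuasiSeparated qY := inferInstance
  haveI := OmegaPn27.smoothOfRelativeDimension_toSpec (n + 1) k
  haveI : Smooth (CohB1.ProjSpace.toSpec (n + 1) k) := SmoothOfRelativeDimension.smooth (n + 1) _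
  haveI : IsProper qY := inferInstance
  haveI : IsProper (I.subscheme ↘ Spec (CommRingCat.of k)) := by rw [hover]; infer_instance
  haveI := Euler.isNoetherian_of_proper (X := I.subscheme) k
  haveI := Euler.isNoetherian_of_proper (X := CohB1.ProjSpace (n + 1) k) k
  -- the form is nonzero
  let G1 : ∀ l : Fin 1, LefPen.Form (n + 1) k ((fun _ => a) l) := fun _ => G
  have hI : LefPen.ciIdeal G1 = I := iSup_unique (fun l => LefPen.hypIdeal (G1 l))
  haveI : Nonempty I.subscheme := hI ▸ HypCI12.nonempty_ci G1 (by omega) (fun _ => ha)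
  have hdim : topologicalKrullDim I.subscheme = (n : WithBot ℕ∞) := Transversal.dim_eq_of_smooth qY n
  have hne : G ≠ 0 := by
    have hreg := CI20.regForms (G := G1) (by omega) (fun _ => ha) (by rw [hI, hdim, Nat.add_sub_cancel])
    intro h
    exact hreg.ne_zero (fun _ => ha) 0 (by show (G : MvPolynomial (Fin (n + 1 + 1)) k) = 0; rw [h]; rfl)
  obtain ⟨eI⟩ := CI20.nonempty_idealMod_hyp G hne
  have hΩ : FlatMod.IsFinLocFree (OmegaP (n + 1) k) := OmegaPn27.isFinLocFree_omegaP _ _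
  have hΩY : FlatMod.IsFinLocFree (Omega.sheaf qY) := OmegaAb15.isFinLocFree_omega _
  let Ti : ℤ → I.subscheme.Modules := fun s => (Scheme.Modules.pullback i).obj (OD (n + 1) k s)
  have hTi : ∀ s, FlatMod.IsFinLocFree (Ti s) := fun s => OX.isFinLocFree_pullback i
    (Euler.isFinLocFree_of_isInvertible (ProjPic26.isInvertible_twistProjSpace (n + 1) k s))
  have hadd : ∀ s t, Nonempty (CohB1.tensorMod (Ti s) (Ti t) ≅ Ti (s + t)) := fun s t => by
    obtain ⟨g⟩ := OmegaPn27.nonempty_twist_add (n + 1) k s t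
    exact ⟨(OX.pullTensorIso i _ _).symm ≪≫ (Scheme.Modules.pullback i).mapIso g⟩
  let W : ℕ → I.subscheme.Modules := fun p => wedge (Omega.sheaf qY) p
  have hW : ∀ p, FlatMod.IsFinLocFree (W p) := fun p => isFinLocFree_wedge hΩY p
  have hcW : ∀ p s, Coh.IsCoh (CohB1.tensorMod (W p) (Ti s)) := fun p s =>
    Euler.isCoh_of_isFinLocFree (ModelK.isFinLocFree_tensorMod (A := W p) (B := Ti s) (hW p) (hTi s))
  -- the restriction
  have hres : ∀ p s, Curv2.euler k I.subscheme ((Scheme.Modules.pullback i).obj (Wt (n + 1) k p s)) =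
      fc (n + 1) p s - fc (n + 1) p (s - a) := by
    intro p s
    have hF := isFinLocFree_Wt (N := n + 1) (k := k) p s
    obtain ⟨S, hS, ⟨s1⟩, ⟨s2⟩, ⟨s3⟩⟩ := exists_restrict_seq I hF
    obtain ⟨g⟩ := OmegaPn27.nonempty_twist_add (n + 1) k s (-(a : ℤ))
    let e1 : S.X₁ ≅ Wt (n + 1) k p (s - a) :=
      s1 ≪≫ moveTwist (X := CohB1.ProjSpace (n + 1) k) eI
        (g ≪≫ eqToIso (congrArg (OD (n + 1) k) (by ring : s + -(a : ℤ) = s - a)))
    obtain ⟨u⟩ := nonempty_quot_pull I hF
    have h3 : Coh.IsCoh S.X₃ := isCoh_push_pull (X := CohB1.ProjSpace (n + 1) k) I hF (u ≪≫ s3.symm)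
    have h := Euler.euler_additive k hS
      (QCoh.isCoh_of_iso e1.symm (Euler.isCoh_of_isFinLocFree (isFinLocFree_Wt p _)))
      (QCoh.isCoh_of_iso s2.symm (Euler.isCoh_of_isFinLocFree hF)) h3
    have h' : Curv2.euler k (CohB1.ProjSpace (n + 1) k) S.X₃ =
        Curv2.euler k I.subscheme ((Scheme.Modules.pullback i).obj (Wt (n + 1) k p s)) := by
      rw [Euler.euler_of_iso k s3]
      refine finsum_congr fun q => ?_
      obtain ⟨f⟩ := nonempty_push_equiv k I (Iso.refl ((Scheme.Modules.pullback i).obj (Wt (n + 1) k p s))) q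
      rw [f.finrank_eq]
    rw [Euler.euler_of_iso k e1, Euler.euler_of_iso k s2, euler_Wt _ (by omega), euler_Wt _ (by omega), h'] at h
    linarith
  refine ⟨fun p s => Curv2.euler k I.subscheme (CohB1.tensorMod (W p) (Ti s)), fun p s hp => ?_, fun s => ?_,
    fun p s => ?_, fun p L hL => ?_⟩
  · have hz : IsZero (CohB1.tensorMod (W p) (Ti s)) :=
      (Euler.tF (Ti s)).map_isZero (isZero_wedge_omega qY hdim hp)
    refine finsum_eq_zero_of_forall_eq_zero fun q => ?_
    haveI := SerrePn27.subsingleton_HH_of_isZero (k := k) hz q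
    simp [Module.finrank_zero_of_subsingleton]
  · obtain ⟨w⟩ := OmegaPn27.nonempty_wedge_zero hΩY
    obtain ⟨b⟩ := OmegaPn27.nonempty_Wt_zero_left (n + 1) k s
    rw [← hres 0 s]
    exact Euler.euler_of_iso k (unitTwistIso w ((Scheme.Modules.pullback i).mapIso b).symm)
  · obtain ⟨T, hT, ⟨t1⟩, ⟨t2⟩, ⟨t3⟩⟩ := exists_conormal_seq (CohB1.ProjSpace.toSpec (n + 1) k) i
    have hcon : Nonempty (Omega.conormal i ≅ (Scheme.Modules.pullback i).obj (ClSub.idealMod I)) := by
      rw [Omega.conormal, Scheme.IdealSheafData.ker_subschemeι]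
      exact ⟨Iso.refl _⟩
    obtain ⟨econ⟩ := hcon
    let eN : T.X₁ ≅ Ti (-(a : ℤ)) := t1 ≪≫ econ ≪≫ (Scheme.Modules.pullback i).mapIso eI
    have h1 : PicF.IsInvertible T.X₁ := ParaPair.isInvertible_of_iso eN
      (Ample.isInvertible_pullback i (ProjPic26.isInvertible_twistProjSpace (n + 1) k _))
    have h2 : FlatMod.IsFinLocFree T.X₂ := DCoh.isFinLocFree_of_iso t2.symm (OX.isFinLocFree_pullback i hΩ)
    have h3 : FlatMod.IsFinLocFree T.X₃ := DCoh.isFinLocFree_of_iso t3.symm hΩY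
    obtain ⟨U, hU, ⟨u1⟩, ⟨u2⟩, ⟨u3⟩⟩ := exists_wedge_seq hT h1 h2 h3 p
    obtain ⟨w1⟩ := ExtPowX.nonempty_iso (isExtPow_wedge h3 p) (isExtPow_wedge hΩY p) t3
    obtain ⟨w2⟩ := ExtPowX.nonempty_iso (isExtPow_wedge h2 (p + 1))
      (ExtPowX.isExtPow_pullback i hΩ (isExtPow_wedge hΩ (p + 1))) t2
    obtain ⟨w3⟩ := ExtPowX.nonempty_iso (isExtPow_wedge h3 (p + 1)) (isExtPow_wedge hΩY (p + 1)) t3
    obtain ⟨g⟩ := hadd (-(a : ℤ)) s
    have hU' : (U.map (Euler.tF (Ti s))).ShortExact :=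
      OX.tensor_map_shortExact (OX.flat_of_isFinLocFree (hTi s)) hU
    let e1 : (U.map (Euler.tF (Ti s))).X₁ ≅ CohB1.tensorMod (W p) (Ti (s - a)) :=
      moveConormal u1 eN w1 (g ≪≫ eqToIso (congrArg Ti (by ring : -(a : ℤ) + s = s - a)))
    let e2 : (U.map (Euler.tF (Ti s))).X₂ ≅ (Scheme.Modules.pullback i).obj (Wt (n + 1) k (p + 1) s) :=
      moveMid i (E := wedge (OmegaP (n + 1) k) (p + 1)) (O := OD (n + 1) k s) (u2 ≪≫ w2)
    let e3 : (U.map (Euler.tF (Ti s))).X₃ ≅ CohB1.tensorMod (W (p + 1)) (Ti s) :=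
      Ample.LineData.tensorModMapIso (u3 ≪≫ w3) (Iso.refl (Ti s))
    have h := Euler.euler_additive k hU' (QCoh.isCoh_of_iso e1.symm (hcW _ _))
      (QCoh.isCoh_of_iso e2.symm (Euler.isCoh_of_isFinLocFree (OX.isFinLocFree_pullback i (isFinLocFree_Wt _ _))))
      (QCoh.isCoh_of_iso e3.symm (hcW _ _))
    rw [Euler.euler_of_iso k e1, Euler.euler_of_iso k e2, Euler.euler_of_iso k e3, hres] at h
    linarith
  · obtain ⟨w⟩ := ExtPowX.nonempty_iso hL (isExtPow_wedge hΩY p) (Iso.refl _)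
    obtain ⟨z⟩ := GrTilde.nonempty_structureModule_iso_twist_zero (CohB1.polyGrading (n + 1) k)
    let z' : Ti 0 ≅ Coh.structureModule I.subscheme :=
      (Scheme.Modules.pullback i).mapIso z.symm ≪≫ OX.pullUnitIso i
    show _ = Curv2.euler k I.subscheme (CohB1.tensorMod (W p) (Ti 0))
    rw [← Euler.euler_of_iso k (w ≪≫ (unitTwistIso' z' (Iso.refl (W p))).symm)]
    haveI : NoetherianSpace ↥I.subscheme := inferInstance
    exact (Euler.euler_eq_sum k L fun q hq => GVanish.subsingleton_H_of_krullDim_le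
      (X := TopCat.of ↥I.subscheme) n hdim.le (Coh.toAb L) q (by omega)).symm

/-- The Euler characteristics assembled into a series. -/
theorem hirzebruch_series (a : ℕ) (c : ℕ → ℕ → ℤ → ℤ) (hv : ∀ n p s, n < p → c n p s = 0)
    (h0 : ∀ n s, c n 0 s = fc (n + 1) 0 s - fc (n + 1) 0 (s - a))
    (hs : ∀ n p s, c n p (s - a) + c n (p + 1) s = fc (n + 1) (p + 1) s - fc (n + 1) (p + 1) (s - a))
    (y : PowerSeries (Polynomial ℤ)) (hy : y = PowerSeries.C (Polynomial.X : Polynomial ℤ)) :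
    (1 - PowerSeries.X) * (1 + y * PowerSeries.X) *
        ((1 + y * PowerSeries.X) ^ a + y * (1 - PowerSeries.X) ^ a) *
        (PowerSeries.X * PowerSeries.mk fun n =>
          ∑ p ∈ Finset.range (n + 1), Polynomial.C (c n p 0) * Polynomial.X ^ p) =
      (1 + y * PowerSeries.X) ^ a - (1 - PowerSeries.X) ^ a := by
  subst hy
  refine hirzebruch_identity a (fun s => PowerSeries.X * PowerSeries.mk fun n =>
    ∑ p ∈ Finset.range (n + 1), Polynomial.C (c n p s) * Polynomial.X ^ p) fun s => ?_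
  refine PowerSeries.ext fun N => ?_
  rw [map_add, map_sub, PowerSeries.coeff_C_mul]
  simp only [genS, PowerSeries.coeff_mk]
  rcases N with _ | N
  · simp [genP_zero]
  · simp only [PowerSeries.coeff_succ_X_mul, PowerSeries.coeff_mk]
    refine Polynomial.ext fun j => ?_
    rcases j with _ | j
    · simp [coeff_genP, h0]
    · simp only [Polynomial.coeff_add, Polynomial.coeff_sub, Polynomial.coeff_X_mul,
        coeff_sum_range (fun p hp => hv N p s hp), coeff_sum_range (fun p hp => hv N p (s - a) hp), coeff_genP]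
      linarith [hs N j s]

end GrothLib.HypVan12
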