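import Groth.Agent.Lib.HypVan12.Main
import Groth.Agent.Lib.HodgeIndex.Curves
import Groth.Agent.Lib.NegVan7.Main
import Groth.Agent.Lib.CMFree.FiniteFlat
import Groth.Agent.Lib.GrpSchField.DimStalk
import Groth.Agent.Lib.SerrePn27.CMVanish
import Groth.Agent.Lib.LocZ25.Sections
import Groth.Agent.Lib.Kodaira.Cones

/-!
# Comparison of forms on a variety and on a hypersurface section of high degree
-/

set_option autoImplicit false
set_option backward.isDefEq.respectTransparency false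
set_option maxHeartbeats 1000000
set_option linter.style.haveILetI false

universe u

open CategoryTheory CategoryTheory.Limits AlgebraicGeometry TopologicalSpace Opposite
open GrothLib.ExtPowX

noncomputable section

namespace GrothLib.HypVan12

section LES

variable (k : Type u) [Field k] {X : Scheme.{u}} [X.Over (Spec (CommRingCat.of k))] {S : ShortComplex X.Modules}

include k in
theorem injective_g (hS : S.ShortExact) (q : ℕ) (h₁ : Subsingleton (Coh.HH X S.X₁ q)) :
    Function.Injective (Cohom.hhMap k S.g q) := by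
  refine (injective_iff_map_eq_zero _).2 fun x hx => ?_
  obtain ⟨y, rfl⟩ := (Cohom.exact₂ (A := k) hS q x).1 hx
  rw [Subsingleton.elim y 0, map_zero]

theorem finrank_le (hS : S.ShortExact) (q : ℕ) (h₁ : Subsingleton (Coh.HH X S.X₁ q))
    [Module.Finite k (Coh.HH X S.X₃ q)] :
    Module.finrank k (Coh.HH X S.X₂ q) ≤ Module.finrank k (Coh.HH X S.X₃ q) :=
  LinearMap.finrank_le_finrank_of_injective (injective_g k hS q h₁)

theorem finrank_eq (hS : S.ShortExact) (q : ℕ) (h₁ : Subsingleton (Coh.HH X S.X₁ q))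
    (h₁' : Subsingleton (Coh.HH X S.X₁ (q + 1))) :
    Module.finrank k (Coh.HH X S.X₂ q) = Module.finrank k (Coh.HH X S.X₃ q) :=
  (LinearEquiv.ofBijective (Cohom.hhMap k S.g q) ⟨injective_g k hS q h₁,
    fun y => (Cohom.exact₃ (A := k) hS q y).1 (Subsingleton.elim _ _)⟩).finrank_eq

end LES

variable (k : Type u) [Field k] {X : Scheme.{u}} [X.Over (Spec (CommRingCat.of k))]

/-- The restriction sequence of a locally free module, with the pullback as third term. -/
theorem exists_restrict_seq (Z : X.IdealSheafData) {F : X.Modules} (hF : FlatMod.IsFinLocFree F) :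
    ∃ S : ShortComplex X.Modules, S.ShortExact ∧ Nonempty (S.X₁ ≅ CohB1.tensorMod (ClSub.idealMod Z) F) ∧
      Nonempty (S.X₂ ≅ F) ∧ Nonempty (S.X₃ ≅
        (Scheme.Modules.pushforward Z.subschemeι).obj ((Scheme.Modules.pullback Z.subschemeι).obj F)) := by
  haveI := ProjFormula.isIso_projHom Z.subschemeι hF (Coh.structureModule Z.subscheme)
  let u1 : CohB1.tensorMod (ClSub.quotMod Z) F ≅
      (Scheme.Modules.pushforward Z.subschemeι).obj ((Scheme.Modules.pullback Z.subschemeι).obj F) :=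
    GrTilde.tensorModComm _ _ ≪≫ asIso (ProjFormula.projHom Z.subschemeι F (Coh.structureModule Z.subscheme)) ≪≫
      (Scheme.Modules.pushforward Z.subschemeι).mapIso
        (GrTilde.tensorModComm _ _ ≪≫ OX.tensorUnitLeftIso _)
  exact ⟨_, OX.tensor_map_shortExact (OX.flat_of_isFinLocFree hF) (ConnH0.shortExact_ideal Z),
    ⟨Iso.refl _⟩, ⟨OX.tensorUnitLeftIso F⟩, ⟨u1⟩⟩

theorem depth_ge [IsProper (X ↘ Spec (CommRingCat.of k))] [Smooth (X ↘ Spec (CommRingCat.of k))] [IrreducibleSpace X]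
    {n : ℕ} (hn : topologicalKrullDim X = n) {F : X.Modules} (hF : FlatMod.IsFinLocFree F) (x : X)
    (hx : IsClosed ({x} : Set X)) :
    (n : ℕ∞) ≤ LocCoh.depth (X.presheaf.stalk x) (F.presheaf.stalk x) := by
  haveI := Euler.isNoetherian_of_proper (X := X) k
  haveI := HodgeIndex.regular_of_smooth k x
  obtain ⟨rs, h1, h2, h3⟩ := CMFree.exists_weaklyRegular_of_isRegularLocalRing (X.presheaf.stalk x)
  haveI := CMFree.isCohenMacaulayLocalRing_of_weaklyRegular (X.presheaf.stalk x) rs h1 h2 h3.ge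
  have hd : ringKrullDim (X.presheaf.stalk x) = n := by
    rw [GrpSchField.ringKrullDim_stalk_eq_of_isClosed (X ↘ Spec (CommRingCat.of k)) isClosed_univ isOpen_univ
      (irreducibleSpace_def _ |>.1 inferInstance) (Set.mem_univ x) hx, ← hn]
    exact (Homeomorph.Set.univ X).isHomeomorph.topologicalKrullDim_eq
  exact (SerrePn27.le_depth_of_isCohenMacaulay hd).trans (LocZ25.depth_ge_of_isFinLocFree hF x)

/-- Isomorphism of pushed forward cohomology. -/
theorem nonempty_push_equiv (Z : X.IdealSheafData) [Z.subscheme.Over (Spec (CommRingCat.of k))]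
    [Z.subschemeι.IsOver (Spec (CommRingCat.of k))] {A B : Z.subscheme.Modules} (e : A ≅ B) (q : ℕ) :
    Nonempty (Coh.HH X ((Scheme.Modules.pushforward Z.subschemeι).obj A) q ≃ₗ[k] Coh.HH Z.subscheme B q) := by
  obtain ⟨f⟩ := SerrePn27.nonempty_HH_push_equiv (k := k) Z.subschemeι A q
  exact ⟨f.symm ≪≫ₗ Euler.hhEquiv (A := k) e q⟩

/-- Moving a factor inside. -/
def swapIso {I E A B : X.Modules} (e : CohB1.tensorMod I A ≅ B) :
    CohB1.tensorMod I (CohB1.tensorMod E A) ≅ CohB1.tensorMod E B :=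
  GrTilde.tensorModComm I (CohB1.tensorMod E A) ≪≫ OX.tensorAssoc E A I ≪≫
    Ample.LineData.tensorModMapIso (Iso.refl E) (GrTilde.tensorModComm A I ≪≫ e)

/-- The structure module absorbing. -/
def unitTwistIso {W U A : X.Modules} (e : W ≅ Coh.structureModule X) (f : U ≅ A) : CohB1.tensorMod W U ≅ A :=
  Ample.LineData.tensorModMapIso e f ≪≫ OX.tensorUnitLeftIso A

/-- The structure module absorbing on the right. -/
def unitTwistIso' {W W' U : X.Modules} (e : U ≅ Coh.structureModule X) (f : W ≅ W') : CohB1.tensorMod W U ≅ W' :=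
  Ample.LineData.tensorModMapIso f e ≪≫ Euler.tFUnitIso W'

/-- The first term of a twisted step. -/
theorem nonempty_left {Y : Scheme.{u}} (i : Y ⟶ X) {I A B : X.Modules}
    (e : CohB1.tensorMod I A ≅ B) {U N W W' : Y.Modules} (u : U ≅ CohB1.tensorMod N W')
    (eN : N ≅ (Scheme.Modules.pullback i).obj I) (w : W' ≅ W) :
    Nonempty (CohB1.tensorMod U ((Scheme.Modules.pullback i).obj A) ≅
      CohB1.tensorMod W ((Scheme.Modules.pullback i).obj B)) := by
  let u' : U ≅ CohB1.tensorMod W ((Scheme.Modules.pullback i).obj I) :=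
    u ≪≫ Ample.LineData.tensorModMapIso eN w ≪≫ GrTilde.tensorModComm _ _
  let p : CohB1.tensorMod ((Scheme.Modules.pullback i).obj I) ((Scheme.Modules.pullback i).obj A) ≅
      (Scheme.Modules.pullback i).obj B :=
    (OX.pullTensorIso i I A).symm ≪≫ (Scheme.Modules.pullback i).mapIso e
  exact ⟨Ample.LineData.tensorModMapIso u' (Iso.refl _) ≪≫ OX.tensorAssoc _ _ _ ≪≫
    Ample.LineData.tensorModMapIso (Iso.refl W) p⟩

theorem lefschetz [IsProper (X ↘ Spec (CommRingCat.of k))] [Smooth (X ↘ Spec (CommRingCat.of k))] [IrreducibleSpace X]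
    {n : ℕ} (hn : topologicalKrullDim X = n) {L : X.Modules} (hL : CohB1.IsAmple L) :
    ∃ m₀ : ℕ, ∀ (m : ℕ), m₀ ≤ m →
      ∀ (s : Coh.structureModule X ⟶ CohB1.tensorPow L m) [Mono s]
        [Smooth ((PicF2.zeroScheme (CohB1.tensorPow L m) s).subschemeι ≫ (X ↘ Spec (CommRingCat.of k)))]
        (p q : ℕ) (OmX : X.Modules) (OmY : (PicF2.zeroScheme (CohB1.tensorPow L m) s).subscheme.Modules),
        ExtPow.IsExtPow p (Omega.sheaf (X ↘ Spec (CommRingCat.of k))) OmX →
        ExtPow.IsExtPow p (Omega.sheaf ((PicF2.zeroScheme (CohB1.tensorPow L m) s).subschemeι ≫ (X ↘ Spec (CommRingCat.of k)))) OmY →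
        (p + q + 1 < n → Module.finrank k (Coh.HH X OmX q) = Module.finrank k (Coh.HH X ((Coh.push (PicF2.zeroScheme (CohB1.tensorPow L m) s).subschemeι).obj OmY) q)) ∧
        (p + q + 1 = n → Module.finrank k (Coh.HH X OmX q) ≤ Module.finrank k (Coh.HH X ((Coh.push (PicF2.zeroScheme (CohB1.tensorPow L m) s).subschemeι).obj OmY) q)) := by
  haveI := Euler.isNoetherian_of_proper (X := X) k
  obtain ⟨Li, hLi, ⟨eLi⟩⟩ := Kodaira.exists_inverse hL.1
  have hbraid : ClSub.IsInverseOf L Li := ⟨GrTilde.tensorModComm _ _ ≪≫ eLi⟩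
  have hclsLi : Cube.clsMod hLi = (Cube.clsMod hL.1)⁻¹ := by
    refine eq_inv_of_mul_eq_one_left ?_
    rw [← Cube.clsMod_tensorMod hLi hL.1]
    exact (Cube.clsMod_eq_one_iff _).2 ⟨eLi⟩
  have hΩ : FlatMod.IsFinLocFree (Omega.sheaf (X ↘ Spec (CommRingCat.of k))) := OmegaAb15.isFinLocFree_omega _
  let E : ℕ → X.Modules := fun p => wedge (Omega.sheaf (X ↘ Spec (CommRingCat.of k))) p
  have hE : ∀ p, FlatMod.IsFinLocFree (E p) := fun p => isFinLocFree_wedge hΩ p
  have hvan : ∀ p, ∃ m₁ : ℕ, ∀ t, m₁ ≤ t → ∀ i, i < n →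
      Subsingleton (Coh.HH X (CohB1.tensorMod (E p) (CohB1.tensorPow Li t)) i) := by
    intro p
    rcases Nat.eq_zero_or_pos n with h0 | h0
    · exact ⟨0, fun t _ i hi => by omega⟩
    obtain ⟨m₁, hm₁⟩ := NegVan7.eventually_vanish k hL hbraid (Euler.isCoh_of_isFinLocFree (hE p)) (n - 1)
      (fun x hx => lt_of_lt_of_le (by exact_mod_cast (show n - 1 < n by omega)) (depth_ge k hn (hE p) x hx))
    exact ⟨m₁, fun t ht i hi => hm₁ t ht i (by omega)⟩
  choose n₀ hn₀ using hvan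
  refine ⟨(Finset.range (n + 1)).sup n₀, fun m hm s _ _ p q OmX OmY hOX hOY => ?_⟩
  have hLm := Ample.isInvertible_tensorPow hL.1 m
  let Z := PicF2.zeroScheme (CohB1.tensorPow L m) s
  let i := Z.subschemeι
  letI : Z.subscheme.Over (Spec (CommRingCat.of k)) := ⟨i ≫ (X ↘ Spec (CommRingCat.of k))⟩
  haveI : i.IsOver (Spec (CommRingCat.of k)) := ⟨rfl⟩
  let qY := i ≫ (X ↘ Spec (CommRingCat.of k))
  haveI : Smooth qY := by assumption
  haveI : IsProper qY := inferInstance
  haveI : IsProper (Z.subscheme ↘ Spec (CommRingCat.of k)) := inferInstanceAs (IsProper qY)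
  haveI : QuasiSeparated qY := inferInstance
  have hΩY : FlatMod.IsFinLocFree (Omega.sheaf qY) := OmegaAb15.isFinLocFree_omega _
  let W : ℕ → Z.subscheme.Modules := fun p => wedge (Omega.sheaf qY) p
  let A : ℕ → X.Modules := fun j => CohB1.tensorPow Li (j * m)
  have hA : ∀ j, PicF.IsInvertible (A j) := fun j => Ample.isInvertible_tensorPow hLi _
  let M : ℕ → Z.subscheme.Modules := fun j => (Scheme.Modules.pullback i).obj (A j)
  have hM : ∀ j, FlatMod.IsFinLocFree (M j) := fun j =>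
    OX.isFinLocFree_pullback i (Euler.isFinLocFree_of_isInvertible (hA j))
  have hI : PicF.IsInvertible (ClSub.idealMod Z) :=
    IdealModSec.isInvertible_of_isEffCartier (isEffCartier_zeroScheme hLm s)
  have hclsI : Cube.clsMod hI = (Cube.clsMod hL.1 ^ m)⁻¹ := by
    refine eq_inv_of_mul_eq_one_right ?_
    rw [← Cube.clsMod_tensorPow hL.1 m, ← Cube.clsMod_tensorMod (Ample.isInvertible_tensorPow hL.1 m) hI]
    exact (Cube.clsMod_eq_one_iff _).2 (nonempty_inverse hLm s)
  have hshift : ∀ j, Nonempty (CohB1.tensorMod (ClSub.idealMod Z) (A j) ≅ A (j + 1)) := fun j => by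
    refine (Cube.clsMod_eq_iff (Ample.isInvertible_tensorMod hI (hA j)) (hA (j + 1))).1 ?_
    rw [Cube.clsMod_tensorMod hI (hA j), Cube.clsMod_tensorPow hLi, Cube.clsMod_tensorPow hLi, hclsI, hclsLi,
      inv_pow, inv_pow, ← mul_inv, ← pow_add, Nat.succ_mul, add_comm]
  obtain ⟨T, hT, ⟨t1⟩, ⟨t2⟩, ⟨t3⟩⟩ := exists_conormal_seq (X ↘ Spec (CommRingCat.of k)) i
  have hcon : Nonempty (Omega.conormal i ≅ (Scheme.Modules.pullback i).obj (ClSub.idealMod Z)) := by
    rw [Omega.conormal, Scheme.IdealSheafData.ker_subschemeι]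
    exact ⟨Iso.refl _⟩
  obtain ⟨econ⟩ := hcon
  let eN : T.X₁ ≅ (Scheme.Modules.pullback i).obj (ClSub.idealMod Z) := t1 ≪≫ econ
  have hN1 : PicF.IsInvertible T.X₁ := GrothLib.ParaPair.isInvertible_of_iso eN (Ample.isInvertible_pullback i hI)
  have h2 : FlatMod.IsFinLocFree T.X₂ := DCoh.isFinLocFree_of_iso t2.symm (OX.isFinLocFree_pullback i hΩ)
  have h3 : FlatMod.IsFinLocFree T.X₃ := DCoh.isFinLocFree_of_iso t3.symm hΩY
  have step : ∀ (p j : ℕ), ∃ R : ShortComplex Z.subscheme.Modules, R.ShortExact ∧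
      Nonempty (R.X₁ ≅ CohB1.tensorMod (W p) (M (j + 1))) ∧
      Nonempty (R.X₂ ≅ (Scheme.Modules.pullback i).obj (CohB1.tensorMod (E (p + 1)) (A j))) ∧
      Nonempty (R.X₃ ≅ CohB1.tensorMod (W (p + 1)) (M j)) := by
    intro p j
    obtain ⟨U, hU, ⟨u1⟩, ⟨u2⟩, ⟨u3⟩⟩ := exists_wedge_seq hT hN1 h2 h3 p
    obtain ⟨w1⟩ := ExtPowX.nonempty_iso (isExtPow_wedge h3 p) (isExtPow_wedge hΩY p) t3
    obtain ⟨w2⟩ := ExtPowX.nonempty_iso (isExtPow_wedge h2 (p + 1))
      (ExtPowX.isExtPow_pullback i hΩ (isExtPow_wedge hΩ (p + 1))) t2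
    obtain ⟨w3⟩ := ExtPowX.nonempty_iso (isExtPow_wedge h3 (p + 1)) (isExtPow_wedge hΩY (p + 1)) t3
    obtain ⟨ea⟩ := hshift j
    exact ⟨U.map (Euler.tF (M j)), OX.tensor_map_shortExact (OX.flat_of_isFinLocFree (hM _)) hU,
      nonempty_left i ea u1 eN w1,
      nonempty_mid i (u2 ≪≫ w2),
      ⟨Ample.LineData.tensorModMapIso (u3 ≪≫ w3) (Iso.refl _)⟩⟩
  have hp0 : ∀ p j : ℕ, p ≤ n → 1 ≤ j → n₀ p ≤ j * m := fun p j hp hj =>
    le_trans (le_trans (Finset.le_sup (f := n₀) (Finset.mem_range.2 (by omega))) hm)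
      (Nat.le_mul_of_pos_left m (by omega))
  have hamb : ∀ p j q, p ≤ n → 1 ≤ j → q < n → Subsingleton (Coh.HH X (CohB1.tensorMod (E p) (A j)) q) :=
    fun p j q hp hj hq => hn₀ p _ (hp0 p j hp hj) q hq
  have hideal : ∀ p j q, p ≤ n → q < n →
      Subsingleton (Coh.HH X (CohB1.tensorMod (ClSub.idealMod Z) (CohB1.tensorMod (E p) (A j))) q) := by
    intro p j q hp hq
    obtain ⟨ea⟩ := hshift j
    let eb : CohB1.tensorMod (ClSub.idealMod Z) (CohB1.tensorMod (E p) (A j)) ≅ CohB1.tensorMod (E p) (A (j + 1)) :=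
      swapIso ea
    haveI := hamb p (j + 1) q hp (by omega) hq
    exact (Euler.hhEquiv (A := k) eb q).toEquiv.subsingleton
  have hmid : ∀ p j q, p ≤ n → 1 ≤ j → q + 1 < n → Subsingleton (Coh.HH Z.subscheme
      ((Scheme.Modules.pullback i).obj (CohB1.tensorMod (E p) (A j))) q) := fun p j q hp hj hq =>
    subsingleton_restrict k Z (OX.isFinLocFree_tensor (hE p) (Euler.isFinLocFree_of_isInvertible (hA j))) q
      (hamb p j q hp hj (by omega)) (hideal p j (q + 1) hp hq)
  obtain ⟨eW0⟩ := ExtPowX.nonempty_iso (isExtPow_wedge hΩY 0)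
    (ModelK.isExtPow_zero (Omega.sheaf qY)) (Iso.refl _)
  obtain ⟨eE0⟩ := ExtPowX.nonempty_iso (isExtPow_wedge hΩ 0)
    (ModelK.isExtPow_zero (Omega.sheaf (X ↘ Spec (CommRingCat.of k)))) (Iso.refl _)
  have key : ∀ (p j q : ℕ), 1 ≤ j → p + q + 1 < n → Subsingleton (Coh.HH Z.subscheme (CohB1.tensorMod (W p) (M j)) q) := by
    intro p
    induction p with
    | zero =>
      intro j q hj hq
      haveI := hmid 0 j q (by omega) hj (by omega)
      let e : CohB1.tensorMod (W 0) (M j) ≅ (Scheme.Modules.pullback i).obj (CohB1.tensorMod (E 0) (A j)) :=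
        unitTwistIso eW0 (Iso.refl (M j)) ≪≫
          ((Scheme.Modules.pullback i).mapIso (unitTwistIso eE0 (Iso.refl (A j)))).symm
      exact (Euler.hhEquiv (A := k) e q).toEquiv.subsingleton
    | succ p ih =>
      intro j q hj hq
      obtain ⟨R, hR, ⟨r1⟩, ⟨r2⟩, ⟨r3⟩⟩ := step p j
      haveI := ih (j + 1) (q + 1) (by omega) (by omega)
      have g1 : Subsingleton (Coh.HH Z.subscheme R.X₁ (q + 1)) := (Euler.hhEquiv (A := k) r1 (q + 1)).toEquiv.subsingleton
      haveI := hmid (p + 1) j q (by omega) hj (by omega)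
      have g2 : Subsingleton (Coh.HH Z.subscheme R.X₂ q) := (Euler.hhEquiv (A := k) r2 q).toEquiv.subsingleton
      haveI := OmegaPn27.subsingleton_X₃ (A := k) hR q g2 g1
      exact (Euler.hhEquiv (A := k) r3.symm q).toEquiv.subsingleton
  -- the ambient comparison
  obtain ⟨eX⟩ := ExtPowX.nonempty_iso hOX (isExtPow_wedge hΩ p) (Iso.refl _)
  obtain ⟨eY⟩ := ExtPowX.nonempty_iso hOY (isExtPow_wedge hΩY p) (Iso.refl _)
  obtain ⟨S, hS, ⟨s1⟩, ⟨s2⟩, ⟨s3⟩⟩ := exists_restrict_seq Z (hE p)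
  have hEA : Nonempty (E p ≅ CohB1.tensorMod (E p) (A 0)) := by
    have : A 0 = Coh.structureModule X := by show CohB1.tensorPow Li (0 * m) = _; rw [zero_mul]; rfl
    rw [this]
    exact ⟨(Euler.tFUnitIso (E p)).symm⟩
  obtain ⟨eEA⟩ := hEA
  have hSX1 : ∀ r, p ≤ n → r < n → Subsingleton (Coh.HH X S.X₁ r) := fun r hp hr => by
    haveI := hideal p 0 r hp hr
    exact (Euler.hhEquiv (A := k) (s1 ≪≫ Ample.LineData.tensorModMapIso (Iso.refl _) eEA) r).toEquiv.subsingleton
  obtain ⟨f3⟩ := nonempty_push_equiv k Z (Iso.refl ((Scheme.Modules.pullback i).obj (E p))) q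
  obtain ⟨fY⟩ := nonempty_push_equiv k Z eY q
  have hX3 : Coh.IsCoh ((Scheme.Modules.pullback i).obj (E p)) :=
    Euler.isCoh_of_isFinLocFree (OX.isFinLocFree_pullback i (hE p))
  haveI := Euler.finiteDimensional_HH k hX3 q
  haveI : Module.Finite k (Coh.HH X S.X₃ q) :=
    Module.Finite.equiv ((Euler.hhEquiv (A := k) s3 q).trans f3).symm
  have lhs : Module.finrank k (Coh.HH X OmX q) = Module.finrank k (Coh.HH X S.X₂ q) :=
    (Euler.hhEquiv (A := k) (eX ≪≫ s2.symm) q).finrank_eq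
  have r3q : Module.finrank k (Coh.HH X S.X₃ q) =
      Module.finrank k (Coh.HH Z.subscheme ((Scheme.Modules.pullback i).obj (E p)) q) :=
    ((Euler.hhEquiv (A := k) s3 q).trans f3).finrank_eq
  have rhs : Module.finrank k (Coh.HH X ((Coh.push i).obj OmY) q) = Module.finrank k (Coh.HH Z.subscheme (W p) q) :=
    fY.finrank_eq
  -- the second comparison
  have second : (p + q + 1 < n → Module.finrank k (Coh.HH Z.subscheme ((Scheme.Modules.pullback i).obj (E p)) q) =
        Module.finrank k (Coh.HH Z.subscheme (W p) q)) ∧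
      (p + q + 1 = n → Module.finrank k (Coh.HH Z.subscheme ((Scheme.Modules.pullback i).obj (E p)) q) ≤
        Module.finrank k (Coh.HH Z.subscheme (W p) q)) := by
    rcases p with _ | p
    · let e : (Scheme.Modules.pullback i).obj (E 0) ≅ W 0 :=
        (Scheme.Modules.pullback i).mapIso eE0 ≪≫ OX.pullUnitIso i ≪≫ eW0.symm
      exact ⟨fun _ => (Euler.hhEquiv (A := k) e q).finrank_eq, fun _ => (Euler.hhEquiv (A := k) e q).finrank_eq.le⟩
    obtain ⟨R, hR, ⟨r1⟩, ⟨r2⟩, ⟨r3⟩⟩ := step p 0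
    have hA0 : Nonempty (M 0 ≅ Coh.structureModule Z.subscheme) := by
      show Nonempty ((Scheme.Modules.pullback i).obj (CohB1.tensorPow Li (0 * m)) ≅ _)
      rw [zero_mul]
      exact ⟨OX.pullUnitIso i⟩
    obtain ⟨eA0⟩ := hA0
    let e3 : R.X₃ ≅ W (p + 1) := r3 ≪≫ unitTwistIso' eA0 (Iso.refl (W (p + 1)))
    let e2 : R.X₂ ≅ (Scheme.Modules.pullback i).obj (E (p + 1)) := r2 ≪≫ (Scheme.Modules.pullback i).mapIso eEA.symm
    have g1 : ∀ r, p + r + 1 < n → Subsingleton (Coh.HH Z.subscheme R.X₁ r) := fun r hr => by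
      haveI := key p 1 r le_rfl hr
      exact (Euler.hhEquiv (A := k) r1 r).toEquiv.subsingleton
    haveI := Euler.finiteDimensional_HH k (Euler.isCoh_of_isFinLocFree (isFinLocFree_wedge hΩY (p + 1))) q
    haveI : Module.Finite k (Coh.HH Z.subscheme R.X₃ q) := Module.Finite.equiv (Euler.hhEquiv (A := k) e3 q).symm
    rw [← (Euler.hhEquiv (A := k) e2 q).finrank_eq, ← (Euler.hhEquiv (A := k) e3 q).finrank_eq]
    exact ⟨fun h => finrank_eq k hR q (g1 q (by omega)) (g1 (q + 1) (by omega)),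
      fun h => finrank_le k hR q (g1 q (by omega))⟩
  refine ⟨fun h => ?_, fun h => ?_⟩
  · rw [lhs, rhs, finrank_eq k hS q (hSX1 q (by omega) (by omega)) (hSX1 (q + 1) (by omega) (by omega)), r3q]
    exact second.1 h
  · rw [lhs, rhs]
    exact (finrank_le k hS q (hSX1 q (by omega) (by omega))).trans (r3q.le.trans (second.2 h))

end GrothLib.HypVan12
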