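import Groth.Agent.Lib.HypVan12.Wedge
import Groth.Agent.Lib.K0Sub.LocFree
import Mathlib.CategoryTheory.Abelian.Refinements

/-!
# Peeling off one summand of the kernel of an extension
-/

set_option autoImplicit false
set_option backward.isDefEq.respectTransparency false
set_option maxHeartbeats 1000000
set_option linter.style.haveILetI false

universe u

open CategoryTheory CategoryTheory.Limits AlgebraicGeometry TopologicalSpace Opposite

noncomputable section

namespace GrothLib.HypVan12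

/-- Dividing by a retract `a` of the kernel leaves the complement `b`. -/
theorem exists_peel {C : Type*} [Category C] [Abelian C] {S : ShortComplex C} (hS : S.ShortExact) {A B : C}
    (ia : A ⟶ S.X₁) (ib : B ⟶ S.X₁) (pa : S.X₁ ⟶ A) (pb : S.X₁ ⟶ B)
    (haa : ia ≫ pa = 𝟙 A) (hbb : ib ≫ pb = 𝟙 B) (hba : ib ≫ pa = 0)
    (htot : pa ≫ ia + pb ≫ ib = 𝟙 S.X₁) :
    ∃ (U V : ShortComplex C), U.ShortExact ∧ V.ShortExact ∧ Nonempty (U.X₁ ≅ A) ∧ Nonempty (U.X₂ ≅ S.X₂) ∧
      Nonempty (V.X₁ ≅ B) ∧ Nonempty (V.X₂ ≅ U.X₃) ∧ Nonempty (V.X₃ ≅ S.X₃) := by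
  haveI := hS.mono_f
  haveI := hS.epi_g
  haveI : IsSplitMono ia := IsSplitMono.mk' ⟨pa, haa⟩
  let f0 : A ⟶ S.X₂ := ia ≫ S.f
  haveI : Mono f0 := mono_comp _ _
  let π := cokernel.π f0
  let U := ShortComplex.mk f0 π (cokernel.condition f0)
  have hU : U.ShortExact := { exact := ShortComplex.exact_of_g_is_cokernel U (cokernelIsCokernel f0) }
  let g' : cokernel f0 ⟶ S.X₃ := cokernel.desc f0 S.g (by simp [f0])
  have hg' : π ≫ g' = S.g := cokernel.π_desc _ _ _
  let f' : B ⟶ cokernel f0 := ib ≫ S.f ≫ π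
  have w : f' ≫ g' = 0 := by simp [f', hg']
  let V := ShortComplex.mk f' g' w
  haveI : Epi g' := epi_of_epi_fac hg'
  haveI : Mono f' := by
    refine Preadditive.mono_of_cancel_zero _ fun {T} x hx => ?_
    obtain ⟨T', ρ, hρ, (y : _ ⟶ A), hy⟩ := hU.exact.exact_up_to_refinements (x ≫ ib ≫ S.f)
      (by show (x ≫ ib ≫ S.f) ≫ π = 0; rw [← hx]; simp [f'])
    haveI := hρ
    have e1 : ρ ≫ x ≫ ib = y ≫ ia := by
      rw [← cancel_mono S.f, Category.assoc, Category.assoc, Category.assoc]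
      exact hy
    have e2 : ρ ≫ x = 0 := by
      have h1 := congrArg (fun t => t ≫ pa) e1
      simp only [Category.assoc, haa, hba, comp_zero, Category.comp_id] at h1
      have h2 := congrArg (fun t => t ≫ pb) e1
      simp only [Category.assoc, hbb, Category.comp_id] at h2
      rw [← h1, zero_comp] at h2
      exact h2
    rw [← cancel_epi ρ, e2, comp_zero]
  have hV : V.ShortExact := by
    refine { exact := ?_ }
    rw [V.exact_iff_exact_up_to_refinements]
    intro T z hz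
    change z ≫ g' = 0 at hz
    obtain ⟨T', ρ, hρ, w', hw⟩ := surjective_up_to_refinements_of_epi π z
    haveI := hρ
    obtain ⟨T'', σ, hσ, v, hv⟩ := hS.exact.exact_up_to_refinements w'
      (by rw [← hg', ← Category.assoc, ← hw, Category.assoc, hz, comp_zero])
    haveI := hσ
    refine ⟨T'', σ ≫ ρ, epi_comp _ _, v ≫ pb, ?_⟩
    show (σ ≫ ρ) ≫ z = (v ≫ pb) ≫ f'
    have hsplit : v ≫ S.f = (v ≫ pa) ≫ f0 + (v ≫ pb) ≫ ib ≫ S.f := by
      conv_lhs => rw [← Category.id_comp S.f, ← htot]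
      simp [f0]
    rw [Category.assoc, hw, ← Category.assoc, hv, hsplit]
    simp [f', π]
  exact ⟨U, V, hU, hV, ⟨Iso.refl _⟩, ⟨Iso.refl _⟩, ⟨Iso.refl _⟩, ⟨Iso.refl _⟩, ⟨Iso.refl _⟩⟩

variable {X : Scheme.{u}}

/-- A kernel which is a sum over `Fin (r+1)` loses its last summand. -/
theorem exists_peel_sigma {S : ShortComplex X.Modules} (hS : S.ShortExact) {r : ℕ} (L : Fin (r + 1) → X.Modules)
    (e : S.X₁ ≅ ∐ L) :
    ∃ (U V : ShortComplex X.Modules), U.ShortExact ∧ V.ShortExact ∧ Nonempty (U.X₁ ≅ L (Fin.last r)) ∧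
      Nonempty (U.X₂ ≅ S.X₂) ∧ Nonempty (V.X₁ ≅ ∐ fun l : Fin r => L l.castSucc) ∧ Nonempty (V.X₂ ≅ U.X₃) ∧
      Nonempty (V.X₃ ≅ S.X₃) := by
  haveI : HasFiniteBiproducts X.Modules := HasFiniteBiproducts.of_hasFiniteCoproducts
  let c : S.X₁ ≅ ⨁ L := e ≪≫ (biproduct.isoCoproduct L).symm
  let L' : Fin r → X.Modules := fun l => L l.castSucc
  obtain ⟨U, V, hU, hV, u1, u2, ⟨v1⟩, v2, v3⟩ := exists_peel hS (A := L (Fin.last r)) (B := ⨁ L')
    (biproduct.ι L (Fin.last r) ≫ c.inv) (biproduct.desc (fun l => biproduct.ι L l.castSucc) ≫ c.inv)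
    (c.hom ≫ biproduct.π L (Fin.last r)) (c.hom ≫ biproduct.lift (fun l => biproduct.π L l.castSucc))
    (by simp)
    (by
      refine biproduct.hom_ext' _ _ fun l => biproduct.hom_ext _ _ fun l' => ?_
      simp [biproduct.ι_π, L'])
    (by
      refine biproduct.hom_ext' _ _ fun l => ?_
      simp [biproduct.ι_π, (Fin.castSucc_lt_last l).ne, L'])
    (by
      rw [Category.assoc, Category.assoc, ← Preadditive.comp_add, ← Category.assoc (biproduct.π L (Fin.last r)),
        ← Category.assoc (biproduct.lift _), ← Preadditive.add_comp]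
      have h : biproduct.π L (Fin.last r) ≫ biproduct.ι L (Fin.last r) +
          biproduct.lift (fun l : Fin r => biproduct.π L l.castSucc) ≫
            biproduct.desc (fun l : Fin r => biproduct.ι L l.castSucc) = 𝟙 (⨁ L) := by
        rw [← biproduct.total, Fin.sum_univ_castSucc, biproduct.lift_desc]
        exact add_comm _ _
      rw [h, Category.id_comp, Iso.hom_inv_id])
  exact ⟨U, V, hU, hV, u1, u2, ⟨v1 ≪≫ biproduct.isoCoproduct L'⟩, v2, v3⟩

end GrothLib.HypVan12
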