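import Groth.Agent.Lib.EllGroup15.ZeroIdeal
import Groth.Agent.Lib.OX.LocalLift

/-!
# The zero scheme of a monomorphic section of an invertible module
-/

set_option autoImplicit false
set_option backward.isDefEq.respectTransparency false
set_option maxHeartbeats 800000
set_option linter.style.haveILetI false

universe u

open CategoryTheory CategoryTheory.Limits AlgebraicGeometry TopologicalSpace Opposite
open GrothLib.InvExt (mres fres IsGen)

noncomputable section

namespace GrothLib.HypVan12

variable {X : Scheme.{u}}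

theorem eq_ofTop {L : X.Modules} (s : Coh.structureModule X ⟶ L) :
    s = OX.ofTop (N := L) (show Γ(L, ⊤) from s.app ⊤ (1 : Γ(X, ⊤))) := by
  refine Scheme.Modules.hom_ext _ _ fun U => ?_
  ext b
  refine (Mero.Zero.app_eq_smul_secVal L s U b).trans
    (Eq.trans ?_ (Mero.Zero.app_eq_smul_secVal L (OX.ofTop (N := L) _) U b).symm)
  refine congrArg (fun z : Γ(L, U) => (show Γ(X, U) from b) • z) ?_
  exact (Mero.Zero.secVal_eq_mres L s U).trans (EllGroup15.secVal_ofTop _ U).symm

theorem isEffCartier_zeroScheme {L : X.Modules} (hL : PicF.IsInvertible L) (s : Coh.structureModule X ⟶ L)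
    [Mono s] : _root_.BlowUp.IsEffCartierIdeal (PicF2.zeroScheme L s) := by
  intro p
  obtain ⟨V, e, hpV, he⟩ := InvExt.exists_gen_nhd hL p
  obtain ⟨T, hpT, hT⟩ := GrothLib.BlowUp.exists_affine_mem_le hpV
  have heT := he.restrict hT
  obtain ⟨r, hr⟩ := heT.exists_smul_eq le_rfl (show Γ(L, T.1) from PicF2.secVal L s T.1)
  rw [InvExt.mres_self] at hr
  refine ⟨T, hpT, r, mem_nonZeroDivisors_iff_right.2 fun b hb => ?_, Jets.zeroScheme_ideal_gen hL s T heT hr⟩
  have hinj : Function.Injective (s.app T.1) := by
    have hS : (ShortComplex.mk s (cokernel.π s) (cokernel.condition s)).ShortExact :=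
      { exact := ShortComplex.exact_of_g_is_cokernel _ (cokernelIsCokernel s) }
    exact QCoh.app_injective hS T.1
  refine hinj ?_
  rw [map_zero, Mero.Zero.app_eq_smul_secVal L s T.1 b, hr, smul_smul, hb, zero_smul]

theorem nonempty_inverse {L : X.Modules} (hL : PicF.IsInvertible L) (s : Coh.structureModule X ⟶ L) [Mono s] :
    Nonempty (CohB1.tensorMod L (ClSub.idealMod (PicF2.zeroScheme L s)) ≅ Coh.structureModule X) := by
  have h0 := isEffCartier_zeroScheme hL s
  have h1 := EllGroup15.isCanSec_zeroScheme hL (show Γ(L, ⊤) from s.app ⊤ (1 : Γ(X, ⊤)))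
  rw [← eq_ofTop s] at h1
  exact EllGroup15.isInverseOf_of_isCanSec h0 h1

end GrothLib.HypVan12
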